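import Cfsg.Agent.Lib.RuGroup.TitsChecks
import Cfsg.Agent.Lib.Spor.RuRank.DataAct

/-!
The predicates of the checks on the action of the stabiliser on the lines.
-/

set_option autoImplicit false
set_option maxRecDepth 100000

namespace CfsgLib.Spor.RuRank

open CfsgLib.PresCert CfsgLib.RuGroup

/-! ### Tables -/

/-- The image of a line under a letter. -/
noncomputable def imA (a x : Nat) : Nat := piA.half (Nat.add (Nat.mul a (nat_lit 1755)) x)

/-- The image of a vector under a composite. -/
noncomputable def imV (a i : Nat) : Nat := piV.half (Nat.add (Nat.mul a (nat_lit 7020)) i)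

/-- The line of a vector. -/
noncomputable def lineOf (i : Nat) : Nat := lineT.half i

/-- A vector on a line. -/
noncomputable def repOf (x : Nat) : Nat := repT.half x

/-- The image of a line under a word. -/
noncomputable def evalA (w : List Nat) (x : Nat) : Nat :=
  List.rec (motive := fun _ => Nat) x (fun a _ ih => imA a ih) w

/-- The two tables of a letter and its inverse are inverse permutations. -/
noncomputable def lineTabOK (a x : Nat) : Bool :=
  Nat.blt (imA a x) (nat_lit 1755) && Nat.blt (imA (Nat.add a (nat_lit 4)) x) (nat_lit 1755) &&
    Nat.beq (imA a (imA (Nat.add a (nat_lit 4)) x)) x &&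
    Nat.beq (imA (Nat.add a (nat_lit 4)) (imA a x)) x

/-- A composite carries a vector and its line as claimed. -/
noncomputable def vecTabOK (a i : Nat) : Bool :=
  Nat.blt (imV a i) (nat_lit 7020) && sends (sT a) (child treeT5 i) (child treeT5 (imV a i)) &&
    Nat.beq (lineOf (imV a i)) (imA a (lineOf i))


end CfsgLib.Spor.RuRank
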