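import Cfsg.Agent.Lib.Spor.RuRank.ActDefs

/-!
Composite 0 carries each vector of the class of 7020 as the tables say.
-/

set_option autoImplicit false
set_option maxRecDepth 100000

namespace CfsgLib.Spor.RuRank

open CfsgLib.PresCert CfsgLib.RuGroup

theorem vec_tab0 : allBin 7020 (vecTabOK 0) 13 0 = true := by decide +kernel

end CfsgLib.Spor.RuRank
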