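import Cfsg.Agent.Lib.RuGroup.TitsSub
import Cfsg.Agent.Lib.PresCert.PermSound
import Cfsg.Agent.Lib.Spor.RuRank.ActDefs
import Cfsg.Agent.Lib.Spor.RuRank.VecTab0
import Cfsg.Agent.Lib.Spor.RuRank.VecTab1
import Cfsg.Agent.Lib.Spor.RuRank.VecTab2
import Cfsg.Agent.Lib.Spor.RuRank.VecTab3

/-!
The stabiliser of a short vector of the Rudvalis lattice acting on its two suborbits of lines:
the 1755 lines orthogonal to the given one and the class of 2304.
-/

set_option autoImplicit false
set_option maxRecDepth 100000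

namespace CfsgLib.Spor.RuRank

open CfsgLib.PresCert CfsgLib.RuGroup CfsgLib.LocalEven.RuRootless Cfsg.Spor

attribute [local irreducible] colW app el idT profT classBits vecT lane pkN sv vec profOf singleP

/-- The stabiliser of the first short vector. -/
abbrev M : Type := ↥(baseFix 1)

theorem wordEl_one (a : ℕ) : wordEl [a] = letterN a := by simp [wordEl]

/-- A word as an element of the stabiliser. -/
noncomputable def mw (w : List ℕ) : M := ⟨wordEl w, word_fix_one w⟩

theorem mw_append (u v : List ℕ) : mw (u ++ v) = mw u * mw v := Subtype.ext (wordEl_append u v)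

theorem mw_cons (a : ℕ) (v : List ℕ) : mw (a :: v) = mw [a] * mw v := mw_append [a] v

theorem mw_nil : mw [] = 1 := Subtype.ext (by simp [mw, wordEl])

theorem mw_replicate (w : List ℕ) (k : ℕ) : mw (List.replicate k w).flatten = mw w ^ k :=
  Subtype.ext (by rw [Subgroup.coe_pow]; exact wordEl_replicate w k)

theorem mw_inv_letter {a : ℕ} (h : a < 4) : mw [a + 4] = (mw [a])⁻¹ := by
  refine Subtype.ext ?_
  rw [Subgroup.coe_inv]
  show wordEl [a + 4] = (wordEl [a])⁻¹
  rw [wordEl_one, wordEl_one, letterN_add_four h]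

/-- A property closed under products holds everywhere if it holds for the four composites. -/
theorem exists_word (f : M) : ∃ w : List ℕ, (∀ a ∈ w, a < 4) ∧ f = mw w := by
  have hf := baseFix_le_sGrp 1 le_rfl (by norm_num) f.2
  rw [sGrp, ← Subgroup.mem_toSubmonoid, Subgroup.closure_toSubmonoid_of_finite] at hf
  suffices H : ∀ g : fourRu, g ∈ Submonoid.closure {f | ∃ n : Fin 4, (n : ℕ) + 1 ≤ 4 ∧ sG n = f} →
      ∃ w : List ℕ, (∀ a ∈ w, a < 4) ∧ g = wordEl w by
    obtain ⟨w, hw, e⟩ := H _ hf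
    exact ⟨w, hw, Subtype.ext e⟩
  intro g hg
  induction hg using Submonoid.closure_induction with
  | mem x hx =>
    obtain ⟨n, -, rfl⟩ := hx
    exact ⟨[(n : ℕ)], by simp, by rw [wordEl_one, letterN, dif_pos n.2]⟩
  | one => exact ⟨[], by simp, by simp [wordEl]⟩
  | mul x y _ _ hx hy =>
    obtain ⟨u, hu, rfl⟩ := hx; obtain ⟨v, hv, rfl⟩ := hy
    exact ⟨u ++ v, fun a ha => (List.mem_append.1 ha).elim (hu a) (hv a), (wordEl_append u v).symm⟩

theorem evalA_nil (x : ℕ) : evalA [] x = x := rfl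

theorem evalA_cons (a : ℕ) (w : List ℕ) (x : ℕ) : evalA (a :: w) x = imA a (evalA w x) := rfl

theorem evalA_append : ∀ (u v : List ℕ) (x : ℕ), evalA (u ++ v) x = evalA u (evalA v x)
  | [], _, _ => rfl
  | a :: u, v, x => by rw [List.cons_append, evalA_cons, evalA_cons, evalA_append u v x]

theorem line_tab : (List.range 4).all (fun a => allBin 1755 (lineTabOK a) 11 0) = true := by
  decide +kernel

theorem line_rep : allBin 1755 (fun x => Nat.blt (repOf x) (nat_lit 7020) && Nat.beq (lineOf (repOf x)) x)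
    11 0 = true := by
  decide +kernel

theorem line_lt : allBin 7020 (fun i => Nat.blt (lineOf i) (nat_lit 1755)) 13 0 = true := by
  decide +kernel

theorem lineOf_lt {i : ℕ} (hi : i < 7020) : lineOf i < 1755 :=
  Nat.le_of_ble_eq_true (allBin_spec _ _ _ _ line_lt i (Nat.zero_le _) hi (by omega))

theorem rep_spec {x : ℕ} (hx : x < 1755) : repOf x < 7020 ∧ lineOf (repOf x) = x := by
  have h := allBin_spec _ _ _ _ line_rep x (Nat.zero_le _) hx (by omega)
  simp only [Bool.and_eq_true, Nat.blt_eq, Nat.beq_eq] at h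
  exact h

theorem imA_spec {a x : ℕ} (ha : a < 4) (hx : x < 1755) :
    imA a x < 1755 ∧ imA (a + 4) x < 1755 ∧ imA a (imA (a + 4) x) = x ∧ imA (a + 4) (imA a x) = x := by
  have h := allBin_spec _ _ _ _ (List.all_eq_true.1 line_tab a (List.mem_range.2 ha)) x (Nat.zero_le _) hx
    (by omega)
  simp only [lineTabOK, Bool.and_eq_true, Nat.blt_eq, Nat.beq_eq] at h
  exact ⟨h.1.1.1, h.1.1.2, h.1.2, h.2⟩

theorem imA_lt {a x : ℕ} (ha : a < 8) (hx : x < 1755) : imA a x < 1755 := by
  by_cases h : a < 4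
  · exact (imA_spec h hx).1
  · have := (imA_spec (a := a - 4) (by omega) hx).2.1
    rwa [show a - 4 + 4 = a by omega] at this

theorem evalA_lt : ∀ {w : List ℕ} {x : ℕ}, (∀ a ∈ w, a < 8) → x < 1755 → evalA w x < 1755
  | [], _, _, hx => hx
  | a :: w, _, h, hx => imA_lt (h a List.mem_cons_self)
      (evalA_lt (w := w) (fun b hb => h b (List.mem_cons_of_mem _ hb)) hx)

theorem child5_lt {i : ℕ} (hi : i < 7020) : child treeT5 i < 16240 := slot_child_lt (s := 4) hi

theorem spt5_inj {i j : ℕ} (hi : i < 7020) (hj : j < 7020) (h : spt treeT5 i = spt treeT5 j) : i = j := by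
  unfold spt at h
  rw [fp_mk (child5_lt hi), fp_mk (child5_lt hj)] at h
  exact slot_inj (s := 4) hi hj (Fin.mk.inj h)

theorem imV_spec {a i : ℕ} (ha : a < 4) (hi : i < 7020) :
    imV a i < 7020 ∧ letterN a • spt treeT5 i = spt treeT5 (imV a i) ∧
      lineOf (imV a i) = imA a (lineOf i) := by
  have hall : allBin 7020 (vecTabOK a) 13 0 = true := by
    interval_cases a
    · exact vec_tab0
    · exact vec_tab1
    · exact vec_tab2
    · exact vec_tab3
  have h := allBin_spec _ _ _ _ hall i (Nat.zero_le _) hi (by omega)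
  simp only [vecTabOK, Bool.and_eq_true, Nat.blt_eq, Nat.beq_eq] at h
  refine ⟨h.1.1, ?_, h.2⟩
  rw [letterN, dif_pos ha]
  exact sG_smul_fp ⟨a, ha⟩ (child5_lt hi) (child5_lt h.1.1) h.1.2

theorem vec_word : ∀ {w : List ℕ}, (∀ a ∈ w, a < 4) → ∀ i < 7020,
    ∃ j < 7020, wordEl w • spt treeT5 i = spt treeT5 j ∧ lineOf j = evalA w (lineOf i)
  | [], _, i, hi => ⟨i, hi, by simp [wordEl], rfl⟩
  | a :: w, h, i, hi => by
    obtain ⟨j, hj, e1, e2⟩ := vec_word (fun b hb => h b (List.mem_cons_of_mem _ hb)) i hi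
    obtain ⟨k1, k2, k3⟩ := imV_spec (h a List.mem_cons_self) hj
    refine ⟨_, k1, ?_, by rw [k3, e2, evalA_cons]⟩
    rw [wordEl, List.map_cons, List.prod_cons, mul_smul, ← wordEl, e1, k2]

/-! ### The actions -/

/-- A word for an element. -/
noncomputable def wordOf (f : M) : List ℕ := (exists_word f).choose

theorem wordOf_lt (f : M) : ∀ a ∈ wordOf f, a < 4 := (exists_word f).choose_spec.1

theorem mw_wordOf (f : M) : mw (wordOf f) = f := (exists_word f).choose_spec.2.symm

theorem wordOf_spec (f : M) {i : ℕ} (hi : i < 7020) :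
    ∃ j < 7020, (f : fourRu) • spt treeT5 i = spt treeT5 j ∧ lineOf j = evalA (wordOf f) (lineOf i) := by
  obtain ⟨j, hj, e1, e2⟩ := vec_word (wordOf_lt f) i hi
  refine ⟨j, hj, ?_, e2⟩
  rw [show ((f : fourRu)) = wordEl (wordOf f) from congrArg Subtype.val (mw_wordOf f).symm]
  exact e1

theorem evalA_wordOf_mul (f g : M) {x : ℕ} (hx : x < 1755) :
    evalA (wordOf (f * g)) x = evalA (wordOf f) (evalA (wordOf g) x) := by
  obtain ⟨hr, he⟩ := rep_spec hx
  obtain ⟨j, hj, e1, e2⟩ := wordOf_spec g hr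
  obtain ⟨k, hk, e3, e4⟩ := wordOf_spec f hj
  obtain ⟨l, hl, e5, e6⟩ := wordOf_spec (f * g) hr
  rw [Subgroup.coe_mul, mul_smul, e1, e3] at e5
  obtain rfl := spt5_inj hk hl e5
  rw [← he, ← e6, e4, e2]

theorem evalA_wordOf_one {x : ℕ} (hx : x < 1755) : evalA (wordOf (1 : M)) x = x := by
  obtain ⟨hr, he⟩ := rep_spec hx
  obtain ⟨j, hj, e1, e2⟩ := wordOf_spec (1 : M) hr
  rw [Subgroup.coe_one, one_smul] at e1
  obtain rfl := spt5_inj hr hj e1
  rw [← he]; exact e2.symm

/-- The action on the 1755 lines. -/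
noncomputable instance actA : MulAction M (Fin 1755) where
  smul f x := ⟨evalA (wordOf f) x, evalA_lt (fun a ha => lt_of_lt_of_le (wordOf_lt f a ha) (by norm_num)) x.2⟩
  one_smul x := Fin.ext (evalA_wordOf_one x.2)
  mul_smul f g x := Fin.ext (evalA_wordOf_mul f g x.2)

theorem smulA_val (f : M) (x : Fin 1755) : ((f • x : Fin 1755) : ℕ) = evalA (wordOf f) x := rfl

theorem smulA_letter {a : ℕ} (ha : a < 4) (x : Fin 1755) : ((mw [a] • x : Fin 1755) : ℕ) = imA a x := by
  obtain ⟨hr, he⟩ := rep_spec x.2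
  obtain ⟨j, hj, e1, e2⟩ := wordOf_spec (mw [a]) hr
  obtain ⟨k, hk, e3, e4⟩ := vec_word (w := [a]) (by simpa using ha) _ hr
  obtain rfl := spt5_inj hj hk (e1.symm.trans e3)
  rw [smulA_val, ← he, ← e2, e4, evalA_cons, evalA_nil]

/-- A word acts on lines by its table. -/
theorem smulA_word : ∀ {w : List ℕ}, (∀ a ∈ w, a < 8) → ∀ x : Fin 1755,
    ((mw w • x : Fin 1755) : ℕ) = evalA w x
  | [], _, x => by rw [mw_nil, one_smul]; rfl
  | a :: w, h, x => by
    have ih := smulA_word (fun b hb => h b (List.mem_cons_of_mem _ hb)) x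
    rw [mw_cons, mul_smul, evalA_cons, ← ih]
    have ha := h a List.mem_cons_self
    by_cases h4 : a < 4
    · exact smulA_letter h4 _
    · obtain ⟨b, rfl⟩ : ∃ b, a = b + 4 := ⟨a - 4, by omega⟩
      have hb : b < 4 := by omega
      rw [mw_inv_letter hb]
      generalize mw w • x = y
      obtain ⟨-, hlt, e, -⟩ := imA_spec hb y.2
      have hy : mw [b] • (⟨imA (b + 4) y, hlt⟩ : Fin 1755) = y := Fin.ext (by rw [smulA_letter hb]; exact e)
      exact congrArg Fin.val (inv_smul_eq_iff.2 hy.symm)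

theorem spt1_smul_word : ∀ {w : List ℕ}, (∀ a ∈ w, a < 8) → ∀ z < 2304,
    evalW piT w z < 2304 ∧ wordEl w • spt treeT1 z = spt treeT1 (evalW piT w z) := fun {w} h z hz =>
  evalW_spec (N := 2304) w (fun a ha i hi => pi_spec (h a ha) hi) z hz

/-- The action on the class of 2304. -/
noncomputable instance actB : MulAction M (Fin 2304) where
  smul f z := ⟨evalW piT (wordOf f) z,
    (spt1_smul_word (fun a ha => lt_of_lt_of_le (wordOf_lt f a ha) (by norm_num)) z z.2).1⟩
  one_smul z := by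
    obtain ⟨h1, h2⟩ := spt1_smul_word (w := wordOf (1 : M))
      (fun a ha => lt_of_lt_of_le (wordOf_lt _ a ha) (by norm_num)) z z.2
    rw [show wordEl (wordOf (1 : M)) = ((1 : M) : fourRu) from congrArg Subtype.val (mw_wordOf 1),
      Subgroup.coe_one, one_smul] at h2
    exact Fin.ext (spt1_inj z.2 h1 h2).symm
  mul_smul f g z := by
    have hw : ∀ f : M, ∀ a ∈ wordOf f, a < 8 := fun f a ha => lt_of_lt_of_le (wordOf_lt f a ha) (by norm_num)
    have hv : ∀ f : M, wordEl (wordOf f) = (f : fourRu) := fun f => congrArg Subtype.val (mw_wordOf f)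
    obtain ⟨h1, e1⟩ := spt1_smul_word (hw g) z z.2
    obtain ⟨h2, e2⟩ := spt1_smul_word (hw f) _ h1
    obtain ⟨h3, e3⟩ := spt1_smul_word (hw (f * g)) z z.2
    rw [hv, Subgroup.coe_mul, mul_smul, ← hv g, e1, ← hv f, e2] at e3
    exact Fin.ext (spt1_inj h2 h3 e3).symm

theorem smulB_spec (f : M) (z : Fin 2304) :
    (f : fourRu) • spt treeT1 z = spt treeT1 ((f • z : Fin 2304) : ℕ) := by
  obtain ⟨-, h⟩ := spt1_smul_word (w := wordOf f) (fun a ha => lt_of_lt_of_le (wordOf_lt f a ha) (by norm_num)) z z.2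
  rw [show wordEl (wordOf f) = (f : fourRu) from congrArg Subtype.val (mw_wordOf f)] at h
  exact h

/-- A word acts on the class by its table. -/
theorem smulB_word {w : List ℕ} (h : ∀ a ∈ w, a < 8) (z : Fin 2304) :
    ((mw w • z : Fin 2304) : ℕ) = evalW piT w z := by
  obtain ⟨h1, h2⟩ := spt1_smul_word h z z.2
  exact spt1_inj (mw w • z : Fin 2304).2 h1 ((smulB_spec (mw w) z).symm.trans h2)

end CfsgLib.Spor.RuRank
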