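import Cfsg.Agent.Lib.Spor.RuRank.Colour

/-!
A list of lines determines every line by its suborbits.
-/

set_option autoImplicit false
set_option maxRecDepth 100000

namespace CfsgLib.Spor.RuRank

open CfsgLib.PresCert

theorem baseF_closure : closureOK 4 baseF ordF = true := by decide +kernel

end CfsgLib.Spor.RuRank
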