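import Cfsg.Agent.Lib.Spor.RuRank.Model
import Cfsg.Agent.Lib.Spor.RuRank.CloseF

/-!
The graph on `4060` points has at most `4060 * 35942400` automorphisms.
-/

set_option autoImplicit false
set_option maxRecDepth 100000

namespace CfsgLib.Spor.RuRank

open CfsgLib.PresCert CfsgLib.RuGroup Cfsg.Spor

attribute [local irreducible] colW app el idT profT classBits vecT lane pkN sv vec profOf singleP

/-- The permutations of the lines respecting all suborbits. -/
def colAut : Subgroup (Equiv.Perm (Fin 1755)) where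
  carrier := {π | ∀ u v, colM (π u) (π v) = colM u v}
  one_mem' _ _ := rfl
  mul_mem' {d e} hd he u v := by rw [Equiv.Perm.mul_apply, Equiv.Perm.mul_apply, hd, he]
  inv_mem' {d} hd u v := by
    have h := hd (d⁻¹ u) (d⁻¹ v)
    simp only [Equiv.Perm.coe_inv, Equiv.apply_symm_apply] at h ⊢
    exact h.symm

theorem card_le_orbit_mul {G : Type*} [Group G] [Finite G] {α : Type*} [Finite α] [MulAction G α]
    (K : Subgroup G) (x : α) (S : Set α) (h : ∀ g ∈ K, g • x ∈ S) :
    Nat.card K ≤ S.ncard * Nat.card (K ⊓ MulAction.stabilizer G x : Subgroup G) := by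
  have h1 := Subgroup.card_mul_index (MulAction.stabilizer K x)
  rw [MulAction.index_stabilizer] at h1
  have h2 : (MulAction.orbit K x).ncard ≤ S.ncard :=
    Set.ncard_le_ncard (by rintro _ ⟨g, rfl⟩; exact h g g.2) (Set.toFinite _)
  have h3 : Nat.card (MulAction.stabilizer K x) ≤ Nat.card (K ⊓ MulAction.stabilizer G x : Subgroup G) :=
    Nat.card_le_card_of_injective (fun s => ⟨((s : K) : G), (s : K).2, s.2⟩)
      fun a b e => Subtype.ext (Subtype.ext (congrArg (fun z : (K ⊓ MulAction.stabilizer G x : Subgroup G) => (z : G)) e))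
  rw [← h1, mul_comm]
  exact Nat.mul_le_mul h2 h3

theorem base_seeds : baseF.getD 0 0 = 0 ∧ baseF.getD 1 0 = 2 ∧ baseF.getD 2 0 = 143 ∧ baseF.getD 3 0 = 39 := by
  decide +kernel

theorem cells : colF 0 2 = 4 ∧ cntB 1755 (fun v => Nat.beq (colF 0 v) 4) = 1024 ∧
    cntB 1755 (fun v => Nat.beq (colF 0 v) (colF 0 143) && Nat.beq (colF 2 v) (colF 2 143)) = 5 ∧
    cntB 1755 (fun v => Nat.beq (colF 0 v) (colF 0 39) && Nat.beq (colF 2 v) (colF 2 39) &&
      Nat.beq (colF 143 v) (colF 143 39)) = 4 := by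
  decide +kernel

theorem card_colAut : Nat.card colAut ≤ 35942400 := by
  classical
  set E := Equiv.Perm (Fin 1755)
  have hcnt : ∀ p : ℕ → Bool, ({v : Fin 1755 | p v = true}).ncard = cntB 1755 p := fun p => by
    rw [← card_eq_cntB (by norm_num) p, ← Set.ncard_coe_finset]; simp
  have h0 := card_le_orbit_mul colAut (0 : Fin 1755) Set.univ fun _ _ => trivial
  set K1 := colAut ⊓ MulAction.stabilizer E (0 : Fin 1755)
  have h1 := card_le_orbit_mul K1 (2 : Fin 1755) {v : Fin 1755 | Nat.beq (colF 0 v) 4 = true}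
    fun g hg => by
      show Nat.beq (colF 0 (g 2 : Fin 1755)) 4 = true
      rw [Nat.beq_eq, ← cells.1]
      have := hg.1 0 2
      rw [show g 0 = 0 from hg.2] at this
      exact this
  set K2 := K1 ⊓ MulAction.stabilizer E (2 : Fin 1755)
  have h2 := card_le_orbit_mul K2 (143 : Fin 1755)
    {v : Fin 1755 | (Nat.beq (colF 0 v) (colF 0 143) && Nat.beq (colF 2 v) (colF 2 143)) = true}
    fun g hg => by
      show (Nat.beq (colF 0 (g 143 : Fin 1755)) (colF 0 143) && Nat.beq (colF 2 (g 143 : Fin 1755)) (colF 2 143)) = true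
      have a := hg.1.1 0 143; have b := hg.1.1 2 143
      rw [show g 0 = 0 from hg.1.2] at a
      rw [show g 2 = 2 from hg.2] at b
      simp only [Bool.and_eq_true, Nat.beq_eq]
      exact ⟨a, b⟩
  set K3 := K2 ⊓ MulAction.stabilizer E (143 : Fin 1755)
  have h3 := card_le_orbit_mul K3 (39 : Fin 1755)
    {v : Fin 1755 | (Nat.beq (colF 0 v) (colF 0 39) && Nat.beq (colF 2 v) (colF 2 39) &&
      Nat.beq (colF 143 v) (colF 143 39)) = true}
    fun g hg => by
      show (Nat.beq (colF 0 (g 39 : Fin 1755)) (colF 0 39) && Nat.beq (colF 2 (g 39 : Fin 1755)) (colF 2 39) &&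
        Nat.beq (colF 143 (g 39 : Fin 1755)) (colF 143 39)) = true
      have a := hg.1.1.1 0 39; have b := hg.1.1.1 2 39; have c := hg.1.1.1 143 39
      rw [show g 0 = 0 from hg.1.1.2] at a
      rw [show g 2 = 2 from hg.1.2] at b
      rw [show g 143 = 143 from hg.2] at c
      simp only [Bool.and_eq_true, Nat.beq_eq]
      exact ⟨⟨a, b⟩, c⟩
  set K4 := K3 ⊓ MulAction.stabilizer E (39 : Fin 1755)
  have h4 : K4 = ⊥ := le_bot_iff.1 fun g hg => Subgroup.mem_bot.2 <| by
    refine eq_one_of_closure baseF_closure hg.1.1.1.1 fun i hi hlt => ?_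
    obtain ⟨s0, s1, s2, s3⟩ := base_seeds
    interval_cases i
    · rw [show (⟨_, hlt⟩ : Fin 1755) = 0 from Fin.ext s0]; exact hg.1.1.1.2
    · rw [show (⟨_, hlt⟩ : Fin 1755) = 2 from Fin.ext s1]; exact hg.1.1.2
    · rw [show (⟨_, hlt⟩ : Fin 1755) = 143 from Fin.ext s2]; exact hg.1.2
    · rw [show (⟨_, hlt⟩ : Fin 1755) = 39 from Fin.ext s3]; exact hg.2
  rw [Set.ncard_univ, Nat.card_fin] at h0
  rw [hcnt (fun v => Nat.beq (colF 0 v) 4), cells.2.1] at h1
  rw [hcnt (fun v => Nat.beq (colF 0 v) (colF 0 143) && Nat.beq (colF 2 v) (colF 2 143)), cells.2.2.1] at h2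
  rw [hcnt (fun v => Nat.beq (colF 0 v) (colF 0 39) && Nat.beq (colF 2 v) (colF 2 39) &&
      Nat.beq (colF 143 v) (colF 143 39)), cells.2.2.2, h4, Subgroup.card_bot] at h3
  calc Nat.card colAut ≤ 1755 * Nat.card K1 := h0
    _ ≤ 1755 * (1024 * Nat.card K2) := Nat.mul_le_mul_left _ h1
    _ ≤ 1755 * (1024 * (5 * Nat.card K3)) := Nat.mul_le_mul_left _ (Nat.mul_le_mul_left _ h2)
    _ ≤ 1755 * (1024 * (5 * (4 * 1))) :=
      Nat.mul_le_mul_left _ (Nat.mul_le_mul_left _ (Nat.mul_le_mul_left _ h3))
    _ = 35942400 := by norm_num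

/-- The automorphisms fixing the base point. -/
noncomputable abbrev aut0 : Subgroup autDelta := MulAction.stabilizer autDelta (none : V)

theorem map_line (d : aut0) (x : Fin 1755) : ∃ y, ((d : autDelta) : Equiv.Perm V) (some (Sum.inl x)) = some (Sum.inl y) := by
  have h0 : ((d : autDelta) : Equiv.Perm V) none = none := d.2
  have h : Delta (((d : autDelta) : Equiv.Perm V) none) (((d : autDelta) : Equiv.Perm V) (some (Sum.inl x))) = true :=
    ((d : autDelta).2 none (some (Sum.inl x))).trans rfl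
  rw [h0] at h
  rcases hv : ((d : autDelta) : Equiv.Perm V) (some (Sum.inl x)) with _ | y | z
  · rw [hv] at h; exact absurd h (by simp [Delta])
  · exact ⟨y, rfl⟩
  · rw [hv] at h; exact absurd h (by simp [Delta])

/-- The action of an automorphism on the lines. -/
noncomputable def lineMap (d : aut0) (x : Fin 1755) : Fin 1755 := (map_line d x).choose

theorem lineMap_spec (d : aut0) (x : Fin 1755) :
    ((d : autDelta) : Equiv.Perm V) (some (Sum.inl x)) = some (Sum.inl (lineMap d x)) := (map_line d x).choose_spec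

/-- The action on the lines as a homomorphism. -/
noncomputable def lineHom0 : aut0 →* Equiv.Perm (Fin 1755) :=
  @MulAction.toPermHom aut0 (Fin 1755) _
    { smul := lineMap
      one_smul := fun x => by
        have h := lineMap_spec (1 : aut0) x
        exact (Sum.inl_injective (Option.some_injective _ h)).symm
      mul_smul := fun d e x => by
        have h := lineMap_spec (d * e) x
        have h2 : (((d * e : aut0) : autDelta) : Equiv.Perm V) (some (Sum.inl x)) =
            some (Sum.inl (lineMap d (lineMap e x))) := by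
          rw [Subgroup.coe_mul, Subgroup.coe_mul, Equiv.Perm.mul_apply, lineMap_spec, lineMap_spec]
        rw [h] at h2
        exact Sum.inl_injective (Option.some_injective _ h2) }

theorem lineHom0_apply (d : aut0) (x : Fin 1755) :
    ((d : autDelta) : Equiv.Perm V) (some (Sum.inl x)) = some (Sum.inl (lineHom0 d x)) := lineMap_spec d x

theorem adj_lineHom0 (d : aut0) (u v : Fin 1755) :
    adjc (colM (lineHom0 d u) (lineHom0 d v)) = adjc (colM u v) := by
  have h := (d : autDelta).2 (some (Sum.inl u)) (some (Sum.inl v))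
  rw [lineHom0_apply, lineHom0_apply] at h
  exact h

theorem adj_facts : ∀ k : Fin 5, ∀ l : Fin 5, k ≠ 0 → l ≠ 0 → adjc (k : ℕ) = adjc (l : ℕ) →
    (![730, 217, 345, 281, 315] : Fin 5 → ℕ) k = ![730, 217, 345, 281, 315] l → k = l := by
  decide +kernel

theorem lineHom0_mem (d : aut0) : lineHom0 d ∈ colAut := by
  intro u v
  by_cases huv : u = v
  · subst huv; rw [(colM_eq_zero _ _).2 rfl, (colM_eq_zero _ _).2 rfl]
  have hne : lineHom0 d u ≠ lineHom0 d v := fun e => huv ((lineHom0 d).injective e)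
  have hc : common (lineHom0 d u) (lineHom0 d v) = common u v := by
    unfold common
    refine (Finset.card_equiv (lineHom0 d) fun x => ?_).symm
    simp only [Finset.mem_filter, Finset.mem_univ, true_and, adj_lineHom0]
  rw [common_eq, common_eq] at hc
  exact congrArg Fin.val (adj_facts ⟨_, colM_lt _ _⟩ ⟨_, colM_lt _ _⟩
    (fun e => hne ((colM_eq_zero _ _).1 (congrArg Fin.val e)))
    (fun e => huv ((colM_eq_zero _ _).1 (congrArg Fin.val e))) (adj_lineHom0 d u v) hc)

theorem sep_ok : (Nat.beq (colB 0) 0 && (List.range 5).all fun i =>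
    Nat.blt ((sepL.getD i []).getD 1 0) 1755 && Nat.beq ((sepL.getD i []).getD 0 0) ([32, 12, 16, 8, 1].getD i 0) &&
    !(adjAB ((sepL.getD i []).getD 1 0) ((sepL.getD i []).getD 0 0) == adjAB ((sepL.getD i []).getD 1 0) 0)) = true := by
  decide +kernel

/-- Points of the class are determined by their neighbours among the lines. -/
theorem class_ext (hinv : ∀ f u v, Delta (smulV f u) (smulV f v) = Delta u v) {z z' : Fin 2304}
    (h : ∀ x : Fin 1755, adjAB x z = adjAB x z') : z = z' := by
  have hi : ∀ (f : M) (x : Fin 1755) (y : Fin 2304), adjAB (f • x : Fin 1755) (f • y : Fin 2304) = adjAB x y :=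
    fun f x y => hinv f (some (Sum.inl x)) (some (Sum.inr y))
  set w := qB z • z'
  have hw : ∀ x : Fin 1755, adjAB x w = adjAB x 0 := fun x => by
    have h1 := hi (qB z) ((qB z)⁻¹ • x) z'
    have h2 := hi (qB z) ((qB z)⁻¹ • x) z
    rw [smul_inv_smul] at h1 h2
    rw [qB_smul] at h2
    rw [h1, ← h ((qB z)⁻¹ • x), ← h2]
    rfl
  suffices e : w = 0 from (smul_left_cancel (qB z) ((qB_smul z).trans e.symm))
  have hs := sep_ok
  simp only [Bool.and_eq_true, List.all_eq_true, List.mem_range, Nat.beq_eq, Nat.blt_eq,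
    Bool.not_eq_true', beq_eq_false_iff_ne] at hs
  obtain ⟨h00, hsep⟩ := hs
  by_contra hne
  obtain ⟨f, hf, hfe⟩ := reach_repXB w
  have hlt := colB_lt' w
  by_cases h0 : colB w = 0
  · obtain ⟨g, hg, hge⟩ := reach_XB 0 0 w h00 h0
    exact hne (hge ▸ hg)
  · obtain ⟨⟨hx, hr⟩, hd⟩ := hsep (colB w - 1) (by omega)
    have hrep : (repXB ⟨colB w, hlt⟩ : ℕ) = (sepL.getD (colB w - 1) []).getD 0 0 := by
      rw [hr]
      have key : ∀ k : Fin 6, k ≠ 0 → (repXB k : ℕ) = [32, 12, 16, 8, 1].getD ((k : ℕ) - 1) 0 := by decide +kernel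
      exact key ⟨colB w, hlt⟩ fun e => h0 (congrArg Fin.val e)
    refine hd ?_
    have e1 := hi f ⟨_, hx⟩ (repXB ⟨colB w, hlt⟩)
    have e2 := hi f ⟨_, hx⟩ 0
    rw [hfe, hw] at e1
    rw [MulAction.mem_stabilizer_iff.1 hf] at e2
    simp only [Fin.val_zero] at e1 e2
    rw [← hrep]
    exact e1.symm.trans e2

theorem lineHom0_inj (hinv : ∀ f u v, Delta (smulV f u) (smulV f v) = Delta u v) :
    Function.Injective lineHom0 := by
  intro d e h
  refine Subtype.ext (Subtype.ext (Equiv.ext fun v => ?_))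
  have hd : ((d : autDelta) : Equiv.Perm V) none = none := d.2
  have he : ((e : autDelta) : Equiv.Perm V) none = none := e.2
  rcases v with _ | x | z
  · rw [hd, he]
  · rw [lineHom0_apply, lineHom0_apply, h]
  · have key : ∀ g : aut0, ∃ y, ((g : autDelta) : Equiv.Perm V) (some (Sum.inr z)) = some (Sum.inr y) := by
      intro g
      rcases hv : ((g : autDelta) : Equiv.Perm V) (some (Sum.inr z)) with _ | x | y
      · exact absurd (((g : autDelta) : Equiv.Perm V).injective (hv.trans (g.2 : _ = _).symm)) (by simp)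
      · exfalso
        have hx := lineHom0_apply g ((lineHom0 g).symm x)
        rw [Equiv.apply_symm_apply] at hx
        simpa using ((g : autDelta) : Equiv.Perm V).injective (hv.trans hx.symm)
      · exact ⟨y, rfl⟩
    obtain ⟨y, hy⟩ := key d; obtain ⟨y', hy'⟩ := key e
    rw [hy, hy']
    refine congrArg (fun y => some (Sum.inr y)) (class_ext hinv fun x => ?_)
    have a := (d : autDelta).2 (some (Sum.inl ((lineHom0 d).symm x))) (some (Sum.inr z))
    have b := (e : autDelta).2 (some (Sum.inl ((lineHom0 d).symm x))) (some (Sum.inr z))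
    rw [hy, lineHom0_apply, Equiv.apply_symm_apply] at a
    rw [hy', lineHom0_apply, ← h, Equiv.apply_symm_apply] at b
    exact a.trans b.symm

/-- The bound on the automorphism group. -/
theorem card_autDelta (hinv : ∀ f u v, Delta (smulV f u) (smulV f v) = Delta u v) :
    Nat.card autDelta ≤ 4060 * 35942400 := by
  have h1 := Subgroup.card_mul_index aut0
  rw [MulAction.index_stabilizer] at h1
  have h2 : (MulAction.orbit autDelta (none : V)).ncard ≤ 4060 :=
    (Set.ncard_le_ncard (Set.subset_univ _) (Set.toFinite _)).trans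
      (by rw [Set.ncard_univ, Nat.card_eq_fintype_card, card_V])
  have h3 : Nat.card aut0 ≤ 35942400 :=
    (Nat.card_le_card_of_injective (fun d => (⟨lineHom0 d, lineHom0_mem d⟩ : colAut))
      fun a b e => lineHom0_inj hinv (congrArg Subtype.val e)).trans card_colAut
  rw [← h1, mul_comm (Nat.card aut0)]
  exact Nat.mul_le_mul h2 h3

end CfsgLib.Spor.RuRank
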