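import Cfsg.Agent.Lib.Spor.RuRank.Colour

/-!
The suborbits of the two point stabilisers, each transitive, with their sizes, and the numbers of
common neighbours on the lines.
-/

set_option autoImplicit false
set_option maxRecDepth 100000

namespace CfsgLib.Spor.RuRank

open CfsgLib.PresCert CfsgLib.RuGroup Cfsg.Spor

attribute [local irreducible] colW app el idT profT classBits vecT lane pkN sv vec profOf singleP

/-- The stabiliser of the first point of the class. -/
noncomputable abbrev X0 : Subgroup M := MulAction.stabilizer M (0 : Fin 2304)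

/-- The suborbit of a point of the class. -/
noncomputable def colB (z : Nat) : Nat :=
  Nat.land (Nat.shiftRight colBN (Nat.mul z (nat_lit 4))) (nat_lit 15)

/-- Points of the class joined to the first line. -/
noncomputable def sbit (z : Nat) : Bool :=
  Nat.beq (Nat.land (Nat.shiftRight sbN z) (nat_lit 1)) (nat_lit 1)

/-- The suborbit on the class seen from the first line. -/
noncomputable def clsPB (z : Nat) : Nat := Bool.rec (nat_lit 1) (nat_lit 0) (sbit z)

/-- Lines of the suborbit of 780 seen from the first point of the class. -/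
noncomputable def abit (x : Nat) : Bool :=
  Nat.beq (Nat.land (Nat.shiftRight saN x) (nat_lit 1)) (nat_lit 1)

/-- The suborbit on the lines seen from the first point of the class. -/
noncomputable def clsXA (x : Nat) : Nat := Bool.rec (nat_lit 1) (nat_lit 0) (abit x)

/-- The words fixing the first point of the class. -/
def wsX : List (List Nat) := [[0], [1], [2]]

theorem wsX_le : wordsGrp wsX ≤ X0 := by
  rw [wordsGrp, Subgroup.closure_le]
  rintro f ⟨w, hw, rfl⟩
  have h : ∀ w ∈ wsX, (∀ a ∈ w, a < 8) ∧ evalW piT w 0 = 0 := by decide +kernel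
  exact Fin.ext (by rw [smulB_word (h w hw).1]; exact (h w hw).2)

theorem evA_spec (w : List ℕ) (h : ∀ a ∈ w, a < 8) (x : Fin 1755) :
    ((mw w • x : Fin 1755) : ℕ) = evalA w x := smulA_word h x

theorem evB_spec (w : List ℕ) (h : ∀ a ∈ w, a < 8) (x : Fin 2304) :
    ((mw w • x : Fin 2304) : ℕ) = evalW piT w x := smulB_word h x

theorem tree_pa : (treeOK evalA wsP pa1Orb pa1Pos 10 10 1755 (fun v => Nat.beq (col0 v) 1) &&
    treeOK evalA wsP pa2Orb pa2Pos 80 7 1755 (fun v => Nat.beq (col0 v) 2) &&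
    treeOK evalA wsP pa3Orb pa3Pos 640 1 1755 (fun v => Nat.beq (col0 v) 3) &&
    treeOK evalA wsP pa4Orb pa4Pos 1024 2 1755 (fun v => Nat.beq (col0 v) 4)) = true := by
  decide +kernel

theorem tree_pb : (treeOK (evalW piT) wsP pb0Orb pb0Pos 1024 1 2304 (fun v => Nat.beq (clsPB v) 0) &&
    treeOK (evalW piT) wsP pb1Orb pb1Pos 1280 0 2304 (fun v => Nat.beq (clsPB v) 1)) = true := by
  decide +kernel

theorem tree_xa : (treeOK evalA wsX xa0Orb xa0Pos 780 7 1755 (fun v => Nat.beq (clsXA v) 0) &&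
    treeOK evalA wsX xa1Orb xa1Pos 975 0 1755 (fun v => Nat.beq (clsXA v) 1)) = true := by
  decide +kernel

theorem tree_xb : (treeOK (evalW piT) wsX xb0Orb xb0Pos 1 0 2304 (fun v => Nat.beq (colB v) 0) &&
    treeOK (evalW piT) wsX xb1Orb xb1Pos 78 32 2304 (fun v => Nat.beq (colB v) 1) &&
    treeOK (evalW piT) wsX xb2Orb xb2Pos 300 12 2304 (fun v => Nat.beq (colB v) 2) &&
    treeOK (evalW piT) wsX xb3Orb xb3Pos 300 16 2304 (fun v => Nat.beq (colB v) 3) &&
    treeOK (evalW piT) wsX xb4Orb xb4Pos 650 8 2304 (fun v => Nat.beq (colB v) 4) &&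
    treeOK (evalW piT) wsX xb5Orb xb5Pos 975 1 2304 (fun v => Nat.beq (colB v) 5)) = true := by
  decide +kernel

theorem colB_lt : allBin 2304 (fun v => Nat.blt (colB v) (nat_lit 6)) 12 0 = true := by decide +kernel

/-- The representative of a suborbit of the first line. -/
def repPA : Fin 5 → Fin 1755 := ![0, 10, 7, 1, 2]

theorem reach_PA (v : Fin 1755) : ∃ f ∈ P0, f • repPA ⟨col0 v, col0_lt v⟩ = v := by
  have h := tree_pa
  simp only [Bool.and_eq_true] at h
  obtain ⟨⟨⟨h1, h2⟩, h3⟩, h4⟩ := h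
  rw [P0_eq]
  have hc := col0_lt v
  have key : ∀ k : ℕ, col0 v = k → ∀ hk : k < 5, ∃ f ∈ wordsGrp wsP, f • repPA ⟨k, hk⟩ = v := by
    intro k e hk
    interval_cases k
    · exact ⟨1, one_mem _, by rw [one_smul]; exact ((col0_eq_zero v).1 e).symm⟩
    · exact tree_reach evA_spec h1 (by norm_num) v (by simp [e])
    · exact tree_reach evA_spec h2 (by norm_num) v (by simp [e])
    · exact tree_reach evA_spec h3 (by norm_num) v (by simp [e])
    · exact tree_reach evA_spec h4 (by norm_num) v (by simp [e])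
  exact key _ rfl hc

theorem reach_PB (c : ℕ) (z w : Fin 2304) (hz : clsPB z = c) (hw : clsPB w = c) :
    ∃ f ∈ P0, f • z = w := by
  have h := tree_pb
  simp only [Bool.and_eq_true] at h
  obtain ⟨h0, h1⟩ := h
  rw [P0_eq]
  have key : ∀ r : Fin 2304, (∀ v : Fin 2304, clsPB v = c → ∃ f ∈ wordsGrp wsP, f • r = v) →
      ∃ f ∈ wordsGrp wsP, f • z = w := fun r hr => by
    obtain ⟨f, hf, e⟩ := hr z hz; obtain ⟨g, hg, e'⟩ := hr w hw
    exact ⟨g * f⁻¹, mul_mem hg (inv_mem hf), by rw [mul_smul, inv_smul_eq_iff.2 e.symm, e']⟩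
  have hc : c = 0 ∨ c = 1 := by rw [← hz]; unfold clsPB; cases sbit z <;> simp
  rcases hc with rfl | rfl
  · exact key ⟨1, by norm_num⟩ fun v hv => tree_reach evB_spec h0 (by norm_num) v (by simp [hv])
  · exact key ⟨0, by norm_num⟩ fun v hv => tree_reach evB_spec h1 (by norm_num) v (by simp [hv])

theorem reach_XA (c : ℕ) (z w : Fin 1755) (hz : clsXA z = c) (hw : clsXA w = c) :
    ∃ f ∈ X0, f • z = w := by
  have h := tree_xa
  simp only [Bool.and_eq_true] at h
  obtain ⟨h0, h1⟩ := h
  have key : ∀ r : Fin 1755, (∀ v : Fin 1755, clsXA v = c → ∃ f ∈ wordsGrp wsX, f • r = v) →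
      ∃ f ∈ X0, f • z = w := fun r hr => by
    obtain ⟨f, hf, e⟩ := hr z hz; obtain ⟨g, hg, e'⟩ := hr w hw
    exact ⟨g * f⁻¹, mul_mem (wsX_le hg) (inv_mem (wsX_le hf)), by rw [mul_smul, inv_smul_eq_iff.2 e.symm, e']⟩
  have hc : c = 0 ∨ c = 1 := by rw [← hz]; unfold clsXA; cases abit z <;> simp
  rcases hc with rfl | rfl
  · exact key ⟨7, by norm_num⟩ fun v hv => tree_reach evA_spec h0 (by norm_num) v (by simp [hv])
  · exact key ⟨0, by norm_num⟩ fun v hv => tree_reach evA_spec h1 (by norm_num) v (by simp [hv])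

theorem colB_lt' (z : Fin 2304) : colB z < 6 :=
  Nat.le_of_ble_eq_true (allBin_spec _ _ _ _ colB_lt z (Nat.zero_le _) z.2 (by omega))

/-- The representative of a suborbit on the class. -/
def repXB : Fin 6 → Fin 2304 := ![0, 32, 12, 16, 8, 1]

theorem reach_repXB (v : Fin 2304) : ∃ f ∈ X0, f • repXB ⟨colB v, colB_lt' v⟩ = v := by
  have h := tree_xb
  simp only [Bool.and_eq_true] at h
  obtain ⟨⟨⟨⟨⟨h0, h1⟩, h2⟩, h3⟩, h4⟩, h5⟩ := h
  have key : ∀ k : ℕ, colB v = k → ∀ hk : k < 6, ∃ f ∈ wordsGrp wsX, f • repXB ⟨k, hk⟩ = v := by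
    intro k e hk
    interval_cases k
    · exact tree_reach evB_spec h0 (by norm_num) v (by simp [e])
    · exact tree_reach evB_spec h1 (by norm_num) v (by simp [e])
    · exact tree_reach evB_spec h2 (by norm_num) v (by simp [e])
    · exact tree_reach evB_spec h3 (by norm_num) v (by simp [e])
    · exact tree_reach evB_spec h4 (by norm_num) v (by simp [e])
    · exact tree_reach evB_spec h5 (by norm_num) v (by simp [e])
  obtain ⟨f, hf, e⟩ := key _ rfl (colB_lt' v)
  exact ⟨f, wsX_le hf, e⟩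

theorem reach_XB (c : ℕ) (z w : Fin 2304) (hz : colB z = c) (hw : colB w = c) :
    ∃ f ∈ X0, f • z = w := by
  obtain ⟨f, hf, e⟩ := reach_repXB z; obtain ⟨g, hg, e'⟩ := reach_repXB w
  have : repXB ⟨colB z, colB_lt' z⟩ = repXB ⟨colB w, colB_lt' w⟩ := by simp only [hz, hw]
  exact ⟨g * f⁻¹, mul_mem hg (inv_mem hf), by rw [mul_smul, inv_smul_eq_iff.2 e.symm, this, e']⟩

/-! ### Invariant sets -/

/-- The number of positions below `n` at which `p` holds. -/
noncomputable def cntB (n : Nat) (p : Nat → Bool) : Nat :=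
  sumBin n (fun i => bval (p i)) (nat_lit 12) (nat_lit 0)

theorem sumBin_eq (n : ℕ) (f : ℕ → ℕ) : ∀ d l, sumBin n f d l = ∑ i ∈ Finset.Ico l (min n (l + 2 ^ d)), f i
  | 0, l => by
    show (Bool.rec (f l) 0 (Nat.ble n l) : ℕ) = _
    cases hb : Nat.ble n l with
    | true =>
      have := Nat.le_of_ble_eq_true hb
      rw [Finset.Ico_eq_empty (by omega), Finset.sum_empty]
    | false =>
      have : ¬ n ≤ l := fun h => by rw [Nat.ble_eq_true_of_le h] at hb; exact absurd hb (by simp)
      rw [show min n (l + 2 ^ 0) = l + 1 by simp; omega, Nat.Ico_succ_singleton, Finset.sum_singleton]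
  | d + 1, l => by
    show (Bool.rec (Nat.add (sumBin n f d l) (sumBin n f d (Nat.add l (Nat.shiftLeft 1 d)))) 0
      (Nat.ble n l) : ℕ) = _
    cases hb : Nat.ble n l with
    | true =>
      have := Nat.le_of_ble_eq_true hb
      rw [Finset.Ico_eq_empty (by omega), Finset.sum_empty]
    | false =>
      have hl : ¬ n ≤ l := fun h => by rw [Nat.ble_eq_true_of_le h] at hb; exact absurd hb (by simp)
      have e : Nat.add l (Nat.shiftLeft 1 d) = l + 2 ^ d := by
        show l + 1 <<< d = _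
        rw [Nat.shiftLeft_eq, one_mul]
      show Nat.add _ _ = _
      rw [e, sumBin_eq n f d l, sumBin_eq n f d]
      have hp : 2 ^ (d + 1) = 2 ^ d + 2 ^ d := by omega
      have hp0 := Nat.two_pow_pos d
      by_cases h : l + 2 ^ d ≤ n
      · rw [show min n (l + 2 ^ d) = l + 2 ^ d by omega]
        simp only [Nat.add_eq]
        rw [← Finset.sum_Ico_consecutive f (show l ≤ l + 2 ^ d by omega)
          (show l + 2 ^ d ≤ min n (l + 2 ^ (d + 1)) by omega)]
        congr 1
        rw [show l + 2 ^ d + 2 ^ d = l + 2 ^ (d + 1) by omega]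
      · rw [show min n (l + 2 ^ d) = n by omega, show min n (l + 2 ^ (d + 1)) = n by omega,
          show min n (l + 2 ^ d + 2 ^ d) = n by omega]
        simp only [Nat.add_eq]
        rw [Finset.Ico_eq_empty (show ¬ l + 2 ^ d < n by omega), Finset.sum_empty, add_zero]

theorem card_eq_cntB {n : ℕ} (hn : n ≤ 4096) (p : ℕ → Bool) :
    (Finset.univ.filter fun x : Fin n => p x = true).card = cntB n p := by
  rw [cntB, sumBin_eq, Finset.card_filter, Fin.sum_univ_eq_sum_range (fun i => if p i = true then 1 else 0) n,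
    Finset.range_eq_Ico, show min n (0 + 2 ^ 12) = n by omega]
  refine Finset.sum_congr rfl fun i _ => ?_
  cases p i <;> rfl

/-- An invariant set is a union of suborbits. -/
theorem exists_union {n k : ℕ} [MulAction M (Fin n)] (K : Subgroup M) (cls : ℕ → ℕ)
    (hlt : ∀ x : Fin n, cls x < k)
    (htr : ∀ c (x y : Fin n), cls x = c → cls y = c → ∃ f ∈ K, f • x = y) (S : Set (Fin n))
    (hS : ∀ f ∈ K, ∀ x ∈ S, f • x ∈ S) (size : Fin k → ℕ)
    (hsize : ∀ c : Fin k, cntB n (fun i => Nat.beq (cls i) (c : ℕ)) = size c) (hn : n ≤ 4096) :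
    ∃ T : Finset (Fin k), (∀ x : Fin n, x ∈ S ↔ (⟨cls x, hlt x⟩ : Fin k) ∈ T) ∧
      S.ncard = ∑ c ∈ T, size c := by
  classical
  let T : Finset (Fin k) := Finset.univ.filter fun c : Fin k => ∃ x ∈ S, cls x = (c : ℕ)
  have hmem : ∀ x : Fin n, x ∈ S ↔ (⟨cls x, hlt x⟩ : Fin k) ∈ T := fun x => by
    simp only [T, Finset.mem_filter, Finset.mem_univ, true_and]
    refine ⟨fun h => ⟨x, h, rfl⟩, fun ⟨y, hy, e⟩ => ?_⟩
    obtain ⟨f, hf, rfl⟩ := htr _ y x e rfl
    exact hS f hf y hy
  refine ⟨T, hmem, ?_⟩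
  have e : S = ↑(Finset.univ.filter fun x : Fin n => (⟨cls x, hlt x⟩ : Fin k) ∈ T) := by
    ext x; simp [hmem]
  rw [e, Set.ncard_coe_finset, Finset.card_eq_sum_card_fiberwise
    (s := Finset.univ.filter fun x : Fin n => (⟨cls x, hlt x⟩ : Fin k) ∈ T)
    (f := fun x : Fin n => (⟨cls x, hlt x⟩ : Fin k)) (t := T) (fun x hx => (Finset.mem_filter.1 hx).2)]
  refine Finset.sum_congr rfl fun c hc => ?_
  rw [← hsize c, ← card_eq_cntB hn]
  congr 1
  ext x
  simp only [Finset.mem_filter, Finset.mem_univ, true_and, Nat.beq_eq]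
  exact ⟨fun h => congrArg Fin.val h.2, fun h => ⟨by rw [show (⟨cls x, hlt x⟩ : Fin k) = c from Fin.ext h]; exact hc, Fin.ext h⟩⟩

theorem sizes_PA : ∀ c : Fin 5, cntB 1755 (fun i => Nat.beq (col0 i) (c : ℕ)) = ![1, 10, 80, 640, 1024] c := by
  decide +kernel

theorem sizes_PB : ∀ c : Fin 2, cntB 2304 (fun i => Nat.beq (clsPB i) (c : ℕ)) = ![1024, 1280] c := by
  decide +kernel

theorem sizes_XA : ∀ c : Fin 2, cntB 1755 (fun i => Nat.beq (clsXA i) (c : ℕ)) = ![780, 975] c := by
  decide +kernel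

theorem sizes_XB : ∀ c : Fin 6, cntB 2304 (fun i => Nat.beq (colB i) (c : ℕ)) = ![1, 78, 300, 300, 650, 975] c := by
  decide +kernel

/-! ### Common neighbours -/

/-- The relation on lines. -/
noncomputable def adjc (c : Nat) : Bool := Nat.blt (nat_lit 0) c && Nat.blt c (nat_lit 4)

/-- The common neighbours of two lines among the lines. -/
noncomputable def common (u v : Fin 1755) : ℕ :=
  (Finset.univ.filter fun x : Fin 1755 => adjc (colM u x) = true ∧ adjc (colM v x) = true).card

theorem common_smul (f : M) (u v : Fin 1755) : common (f • u) (f • v) = common u v := by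
  unfold common
  refine (Finset.card_equiv (MulAction.toPerm f) fun x => ?_).symm
  simp only [Finset.mem_filter, Finset.mem_univ, true_and, MulAction.toPerm_apply, colM_smul]

theorem common_reps : ∀ c : Fin 5, cntB 1755 (fun x => adjc (colF 0 x) && adjc (colF (repPA c : ℕ) x)) =
    ![730, 217, 345, 281, 315] c := by
  decide +kernel

theorem common_eq (u v : Fin 1755) : common u v = ![730, 217, 345, 281, 315] ⟨colM u v, colM_lt u v⟩ := by
  rw [← common_smul (qA u), qA_smul]
  obtain ⟨f, hf, e⟩ := reach_PA (qA u • v)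
  have hc : (⟨col0 ((qA u • v : Fin 1755) : ℕ), col0_lt _⟩ : Fin 5) = ⟨colM u v, colM_lt u v⟩ :=
    Fin.ext (colM_eq u v).symm
  rw [← e, hc]
  conv_lhs => rw [← (MulAction.mem_stabilizer_iff.1 hf : f • (0 : Fin 1755) = 0)]
  rw [common_smul, common, ← common_reps, ← card_eq_cntB (by norm_num)]
  congr 1
  ext x
  rw [Finset.mem_filter, Finset.mem_filter]
  simp only [Finset.mem_univ, true_and, Bool.and_eq_true]
  exact Iff.rfl

end CfsgLib.Spor.RuRank
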