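import Cfsg.Agent.Lib.Spor.RuRank.Act
import Cfsg.Agent.Lib.Spor.RuRank.Data
import Cfsg.Agent.Lib.Spor.RuRank.ChainP

/-!
The suborbits of the stabiliser of a line on the 1755 lines, and their consequences for
permutations respecting them.
-/

set_option autoImplicit false
set_option maxRecDepth 100000

namespace CfsgLib.Spor.RuRank

open CfsgLib.PresCert CfsgLib.RuGroup Cfsg.Spor

attribute [local irreducible] colW app el idT profT classBits vecT lane pkN sv vec profOf singleP

/-- A word packed in four bit letters, each increased by one. -/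
noncomputable def dec (fuel : Nat) : Nat → List Nat :=
  Nat.rec (motive := fun _ => Nat → List Nat) (fun _ => [])
    (fun _ ih n => Bool.rec (Nat.sub (Nat.land n (nat_lit 15)) (nat_lit 1) :: ih (Nat.shiftRight n (nat_lit 4))) []
      (Nat.beq n (nat_lit 0))) fuel

/-- The letters of a word are letters. -/
noncomputable def lettersOK (w : List Nat) : Bool :=
  List.rec (motive := fun _ => Bool) true (fun a _ ih => Nat.blt a (nat_lit 8) && ih) w

theorem lettersOK_spec : ∀ {w : List ℕ}, lettersOK w = true → ∀ a ∈ w, a < 8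
  | [], _, _, h => absurd h List.not_mem_nil
  | b :: w, h, a, ha => by
    have h' : Nat.blt b 8 = true ∧ lettersOK w = true := by simpa [lettersOK] using h
    rcases List.mem_cons.1 ha with rfl | ha
    · exact Nat.le_of_ble_eq_true h'.1
    · exact lettersOK_spec h'.2 a ha

/-- A word mapping a line to the first. -/
noncomputable def bA (u : Nat) : List Nat := dec (nat_lit 8) (backA.word u)

/-- A word mapping a point of the class to the first. -/
noncomputable def bB (z : Nat) : List Nat := dec (nat_lit 9) (backB.word z)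

theorem bA_check : allBin 1755 (fun u => lettersOK (bA u) && Nat.beq (evalA (bA u) u) (nat_lit 0)) 11 0 = true := by
  decide +kernel

theorem bB_check : allBin 2304 (fun z => lettersOK (bB z) && Nat.beq (evalW piT (bB z) z) (nat_lit 0)) 12 0 = true := by
  decide +kernel

theorem bA_lt (u : Fin 1755) : ∀ a ∈ bA u, a < 8 := by
  have h := allBin_spec _ _ _ _ bA_check u (Nat.zero_le _) u.2 (by omega)
  simp only [Bool.and_eq_true] at h
  exact lettersOK_spec h.1

theorem bB_lt (z : Fin 2304) : ∀ a ∈ bB z, a < 8 := by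
  have h := allBin_spec _ _ _ _ bB_check z (Nat.zero_le _) z.2 (by omega)
  simp only [Bool.and_eq_true] at h
  exact lettersOK_spec h.1

/-- An element mapping a line to the first. -/
noncomputable def qA (u : Fin 1755) : M := mw (bA u)

/-- An element mapping a point of the class to the first. -/
noncomputable def qB (z : Fin 2304) : M := mw (bB z)

theorem qA_smul (u : Fin 1755) : qA u • u = 0 := by
  have h := allBin_spec _ _ _ _ bA_check u (Nat.zero_le _) u.2 (by omega)
  simp only [Bool.and_eq_true, Nat.beq_eq] at h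
  exact Fin.ext (by rw [qA, smulA_word (bA_lt u), h.2]; rfl)

theorem qB_smul (z : Fin 2304) : qB z • z = 0 := by
  have h := allBin_spec _ _ _ _ bB_check z (Nat.zero_le _) z.2 (by omega)
  simp only [Bool.and_eq_true, Nat.beq_eq] at h
  exact Fin.ext (by rw [qB, smulB_word (bB_lt z), h.2]; rfl)

instance transA : MulAction.IsPretransitive M (Fin 1755) := ⟨fun x y =>
  ⟨(qA y)⁻¹ * qA x, by rw [mul_smul, qA_smul, inv_smul_eq_iff, qA_smul]⟩⟩

instance transB : MulAction.IsPretransitive M (Fin 2304) := ⟨fun x y =>
  ⟨(qB y)⁻¹ * qB x, by rw [mul_smul, qB_smul, inv_smul_eq_iff, qB_smul]⟩⟩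

theorem card_M : Nat.card M = 35942400 := card_baseFix.1

instance : Finite M := Nat.finite_of_card_ne_zero (by rw [card_M]; norm_num)

theorem card_stabA (x : Fin 1755) : Nat.card (MulAction.stabilizer M x) = 20480 := by
  have h := Subgroup.card_mul_index (MulAction.stabilizer M x)
  rw [MulAction.index_stabilizer_of_transitive, Nat.card_fin, card_M] at h
  omega

theorem card_stabB (z : Fin 2304) : Nat.card (MulAction.stabilizer M z) = 15600 := by
  have h := Subgroup.card_mul_index (MulAction.stabilizer M z)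
  rw [MulAction.index_stabilizer_of_transitive, Nat.card_fin, card_M] at h
  omega

/-! ### Words and certificates -/

/-- The inverse of a word. -/
def iw (w : List Nat) : List Nat := (w.map fun a => (a + 4) % 8).reverse

theorem iw_lt (w : List ℕ) : ∀ a ∈ iw w, a < 8 := by
  intro a ha
  obtain ⟨b, -, rfl⟩ := List.mem_map.1 (List.mem_reverse.1 ha)
  omega

theorem mw_iw : ∀ {w : List ℕ}, (∀ a ∈ w, a < 8) → mw (iw w) = (mw w)⁻¹
  | [], _ => by simp [iw, mw_nil]
  | a :: w, h => by
    have e : iw (a :: w) = iw w ++ [(a + 4) % 8] := by simp [iw]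
    rw [e, mw_append, mw_iw fun b hb => h b (List.mem_cons_of_mem _ hb), mw_cons a w, mul_inv_rev]
    congr 1
    have ha := h a List.mem_cons_self
    by_cases h4 : a < 4
    · rw [Nat.mod_eq_of_lt (by omega), mw_inv_letter h4]
    · obtain ⟨b, rfl⟩ : ∃ b, a = b + 4 := ⟨a - 4, by omega⟩
      rw [show (b + 4 + 4) % 8 = b by omega, mw_inv_letter (show b < 4 by omega), inv_inv]

/-- The permutation tables of a certificate are those of the words. -/
noncomputable def chainImgOK (W : List (List Nat)) (D : PermData) : Bool :=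
  (List.range W.length).all fun k => allBin 1755 (fun i => Nat.beq (evalA (W.getD k []) i) (D.img k i)) 11 0

/-- A certificate bounds the order of the subgroup generated by the words. -/
theorem chain_card {W : List (List ℕ)} {t : BTree} {ws : List (List ℕ)} {ls : List Level}
    {K : Subgroup M} (hW : ∀ w ∈ W, (∀ a ∈ w, a < 8) ∧ mw w ∈ K)
    (hi : chainImgOK W ⟨1755, W.length, t, ws⟩ = true)
    (hw : PermData.okWords ⟨1755, W.length, t, ws⟩ W.length ws = true)
    (hl : PermData.okLevels ⟨1755, W.length, t, ws⟩ [] ls = true) :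
    (ls.map Level.len).prod ≤ Nat.card K := by
  refine PermData.le_card_of_hom (D := ⟨1755, W.length, t, ws⟩) K
    (MulAction.toPermHom M (Fin 1755)) (fun k hk => ?_) hw ls hl
  have hmem : W.getD k [] ∈ W := by
    rw [List.getD_eq_getElem?_getD, List.getElem?_eq_getElem hk]
    exact List.getElem_mem hk
  refine ⟨mw (W.getD k []), (hW _ hmem).2, fun i => ?_⟩
  rw [MulAction.toPermHom_apply, MulAction.toPerm_apply, smulA_word (hW _ hmem).1]
  have h := allBin_spec _ _ _ _ (List.all_eq_true.1 hi k (List.mem_range.2 hk)) i (Nat.zero_le _) i.2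
    (by have := i.2; simp only at this; omega)
  rw [Nat.beq_eq] at h
  exact h

/-- The group generated by some words. -/
noncomputable def wordsGrp (W : List (List ℕ)) : Subgroup M := Subgroup.closure {f | ∃ w ∈ W, mw w = f}

theorem mw_mem_wordsGrp {W : List (List ℕ)} {w : List ℕ} (h : w ∈ W) : mw w ∈ wordsGrp W :=
  Subgroup.subset_closure ⟨w, h, rfl⟩

theorem chain_card_words {W : List (List ℕ)} (h8 : ∀ w ∈ W, ∀ a ∈ w, a < 8) {t : BTree}
    {ws : List (List ℕ)} {ls : List Level} {g : ℕ} (hg : (W ++ W.map iw).length = g)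
    (hi : chainImgOK (W ++ W.map iw) ⟨1755, g, t, ws⟩ = true)
    (hw : PermData.okWords ⟨1755, g, t, ws⟩ g ws = true)
    (hl : PermData.okLevels ⟨1755, g, t, ws⟩ [] ls = true) :
    (ls.map Level.len).prod ≤ Nat.card (wordsGrp W) := by
  subst hg
  refine chain_card (fun w hw' => ?_) hi hw hl
  rcases List.mem_append.1 hw' with h | h
  · exact ⟨h8 w h, mw_mem_wordsGrp h⟩
  · obtain ⟨v, hv, rfl⟩ := List.mem_map.1 h
    exact ⟨iw_lt v, by rw [mw_iw (h8 v hv)]; exact inv_mem (mw_mem_wordsGrp hv)⟩

/-- An entry of an orbit tree follows from an earlier one. -/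
noncomputable def entryOK (ev : List Nat → Nat → Nat) (W : List (List Nat)) (T : BTree) (root p : Nat) : Bool :=
  (fun e =>
    Bool.rec
      (Nat.blt (Nat.land (Nat.shiftRight e (nat_lit 16)) (nat_lit 65535)) p &&
        Nat.blt (Nat.shiftRight e (nat_lit 32)) W.length &&
        Nat.beq (ev (W.getD (Nat.shiftRight e (nat_lit 32)) [])
          (Nat.land (T.word (Nat.land (Nat.shiftRight e (nat_lit 16)) (nat_lit 65535))) (nat_lit 65535)))
          (Nat.land e (nat_lit 65535)))
      (Nat.beq (Nat.land e (nat_lit 65535)) root) (Nat.beq p (nat_lit 0))) (T.word p)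

/-- A selected point occurs in an orbit tree. -/
noncomputable def coverOK (T P : BTree) (len : Nat) (sel : Nat → Bool) (v : Nat) : Bool :=
  Bool.rec true (Nat.blt (P.half v) len && Nat.beq (Nat.land (T.word (P.half v)) (nat_lit 65535)) v) (sel v)

/-- An orbit tree is right and covers the selected points. -/
noncomputable def treeOK (ev : List Nat → Nat → Nat) (W : List (List Nat)) (T P : BTree)
    (len root n : Nat) (sel : Nat → Bool) : Bool :=
  allBin len (entryOK ev W T root) 12 0 && allBin n (coverOK T P len sel) 12 0 && Nat.ble len 4096 &&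
    Nat.ble n 4096 && W.all lettersOK

theorem tree_reach {n : ℕ} [MulAction M (Fin n)] {ev : List ℕ → ℕ → ℕ} {W : List (List ℕ)}
    {T P : BTree} {len root : ℕ} {sel : ℕ → Bool}
    (hev : ∀ w : List ℕ, (∀ a ∈ w, a < 8) → ∀ x : Fin n, ((mw w • x : Fin n) : ℕ) = ev w x)
    (h : treeOK ev W T P len root n sel = true) (hroot : root < n) (v : Fin n) (hv : sel v = true) :
    ∃ f ∈ wordsGrp W, f • (⟨root, hroot⟩ : Fin n) = v := by
  simp only [treeOK, Bool.and_eq_true, List.all_eq_true, Nat.ble_eq] at h
  obtain ⟨⟨⟨⟨he, hc⟩, hlen⟩, hn⟩, hW⟩ := h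
  have key : ∀ p, p < len → ∃ f ∈ wordsGrp W,
      ((f • (⟨root, hroot⟩ : Fin n) : Fin n) : ℕ) = Nat.land (T.word p) 65535 := by
    intro p
    induction p using Nat.strong_induction_on with
    | _ p ih =>
      intro hp
      have h1 := allBin_spec _ _ _ _ he p (Nat.zero_le _) hp (by omega)
      unfold entryOK at h1
      cases hb : Nat.beq p 0
      · simp only [hb, Bool.and_eq_true, Nat.blt_eq, Nat.beq_eq] at h1
        obtain ⟨⟨hpar, hk⟩, him⟩ := h1
        obtain ⟨f, hf, hfe⟩ := ih _ hpar (hpar.trans hp)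
        have hmem : W.getD (Nat.shiftRight (T.word p) 32) [] ∈ W := by
          rw [List.getD_eq_getElem?_getD, List.getElem?_eq_getElem hk]
          exact List.getElem_mem hk
        refine ⟨mw (W.getD (Nat.shiftRight (T.word p) 32) []) * f,
          mul_mem (mw_mem_wordsGrp hmem) hf, ?_⟩
        rw [mul_smul, hev _ (lettersOK_spec (hW _ hmem)), hfe, him]
      · simp only [hb, Nat.beq_eq] at h1
        exact ⟨1, one_mem _, by rw [one_smul]; exact h1.symm⟩
  have h2 := allBin_spec _ _ _ _ hc v (Nat.zero_le _) v.2 (by omega)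
  unfold coverOK at h2
  simp only [hv, Bool.and_eq_true, Nat.blt_eq, Nat.beq_eq] at h2
  obtain ⟨f, hf, hfe⟩ := key _ h2.1
  exact ⟨f, hf, Fin.ext (hfe.trans h2.2)⟩

/-! ### The suborbits -/

/-- The suborbit of a line. -/
noncomputable def col0 (v : Nat) : Nat :=
  Nat.land (Nat.shiftRight colN (Nat.mul v (nat_lit 4))) (nat_lit 15)

/-- The suborbit of the second line seen from the first. -/
noncomputable def colF (u v : Nat) : Nat := col0 (evalA (bA u) v)

/-- The suborbit of the second line seen from the first. -/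
noncomputable def colM (u v : Fin 1755) : ℕ := colF u v

theorem colM_eq (u v : Fin 1755) : colM u v = col0 ((qA u • v : Fin 1755) : ℕ) := by
  rw [colM, colF, qA, smulA_word (bA_lt u)]

/-- The stabiliser of the first line. -/
noncomputable abbrev P0 : Subgroup M := MulAction.stabilizer M (0 : Fin 1755)

theorem wsP_lt : ∀ w ∈ wsP, ∀ a ∈ w, a < 8 := by decide +kernel

theorem wsP_fix : (wsP.all fun w => Nat.beq (evalA w 0) 0 &&
    allBin 1755 (fun v => Nat.beq (col0 (evalA w v)) (col0 v)) 11 0) = true := by decide +kernel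

theorem chainP_img : chainImgOK (wsP ++ wsP.map iw) stpPerm = true := by decide +kernel

theorem P0_eq : P0 = wordsGrp wsP := by
  refine (Subgroup.eq_of_le_of_card_ge ?_ ?_).symm
  · rw [wordsGrp, Subgroup.closure_le]
    rintro f ⟨w, hw, rfl⟩
    have h := List.all_eq_true.1 wsP_fix w hw
    simp only [Bool.and_eq_true, Nat.beq_eq] at h
    exact Fin.ext (by rw [smulA_word (wsP_lt w hw)]; exact h.1)
  · rw [card_stabA]
    refine le_of_eq_of_le stp_prod.symm ?_
    exact chain_card_words wsP_lt (g := 4) (by decide +kernel) chainP_img stp_words stp_levels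

theorem col0_smul {f : M} (hf : f ∈ P0) : ∀ v : Fin 1755, col0 ((f • v : Fin 1755) : ℕ) = col0 v := by
  rw [P0_eq] at hf
  induction hf using Subgroup.closure_induction with
  | mem g hg =>
    obtain ⟨w, hw, rfl⟩ := hg
    intro v
    have h := List.all_eq_true.1 wsP_fix w hw
    simp only [Bool.and_eq_true] at h
    rw [smulA_word (wsP_lt w hw)]
    exact Nat.eq_of_beq_eq_true (allBin_spec _ _ _ _ h.2 v (Nat.zero_le _) v.2 (by omega))
  | one => intro v; rw [one_smul]
  | mul f g _ _ hf hg => intro v; rw [mul_smul, hf, hg]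
  | inv f _ hf => intro v; rw [← hf (f⁻¹ • v), smul_inv_smul]

theorem colM_smul (f : M) (u v : Fin 1755) : colM (f • u) (f • v) = colM u v := by
  have hp : qA (f • u) * f * (qA u)⁻¹ ∈ P0 := by
    rw [MulAction.mem_stabilizer_iff, mul_smul, mul_smul,
      show (qA u)⁻¹ • (0 : Fin 1755) = u from inv_smul_eq_iff.2 (qA_smul u).symm, qA_smul]
  rw [colM_eq, colM_eq, ← col0_smul hp (qA u • v), mul_smul, mul_smul, inv_smul_smul]

theorem col0_check : allBin 1755 (fun v =>
    Nat.blt (col0 v) (nat_lit 5) && (Nat.beq (col0 v) (nat_lit 0) == Nat.beq v (nat_lit 0))) 11 0 = true := by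
  decide +kernel

theorem col0_lt (v : Fin 1755) : col0 v < 5 := by
  have h := allBin_spec _ _ _ _ col0_check v (Nat.zero_le _) v.2 (by omega)
  simp only [Bool.and_eq_true, Nat.blt_eq] at h
  exact h.1

theorem col0_eq_zero (v : Fin 1755) : col0 v = 0 ↔ v = 0 := by
  have h := allBin_spec _ _ _ _ col0_check v (Nat.zero_le _) v.2 (by omega)
  simp only [Bool.and_eq_true, beq_iff_eq] at h
  have h2 := h.2
  rw [Bool.eq_iff_iff, Nat.beq_eq, Nat.beq_eq] at h2
  rw [h2]
  exact ⟨fun e => Fin.ext e, fun e => congrArg Fin.val e⟩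

theorem colM_eq_zero (u v : Fin 1755) : colM u v = 0 ↔ u = v := by
  rw [colM_eq, col0_eq_zero]
  exact ⟨fun e => smul_left_cancel (qA u) ((qA_smul u).trans e.symm), fun e => e ▸ qA_smul u⟩

theorem colM_lt (u v : Fin 1755) : colM u v < 5 := colM_eq u v ▸ col0_lt _

theorem colM_zero_left (v : Fin 1755) : colM 0 v = col0 v := by
  have h : qA 0 ∈ P0 := qA_smul 0
  rw [colM_eq, col0_smul h]

/-! ### Permutations respecting the suborbits -/

/-- A point is the only one with its suborbits seen from the given points. -/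
noncomputable def uniqOK (pre : List Nat) (v : Nat) : Bool :=
  allBin 1755 (fun x => Nat.beq x v || !(pre.all fun a => Nat.beq (colF a x) (colF a v))) 11 0

/-- The code of a point seen from a list of points. -/
noncomputable def code (F : List Nat) (v : Nat) : Nat :=
  List.rec (motive := fun _ => Nat) (nat_lit 0)
    (fun a _ ih => Nat.add (colF a v) (Nat.mul (nat_lit 8) ih)) F

/-- The seeds determine the list, and the list every point. -/
noncomputable def closureOK (ns : Nat) (F : List Nat) (O : BTree) : Bool :=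
  ((List.range F.length).all fun i => Nat.blt i ns || uniqOK (F.take i) (F.getD i 0)) &&
    (F.all fun a => Nat.blt a 1755) &&
    allBin 1755 (fun i => Nat.blt (O.half i) (nat_lit 1755)) 11 0 &&
    allBin 1754 (fun i => Nat.blt (code F (O.half i)) (code F (O.half (Nat.add i (nat_lit 1))))) 11 0

theorem code_congr {F : List ℕ} {v w : ℕ} (h : ∀ a ∈ F, colF a v = colF a w) : code F v = code F w := by
  induction F with
  | nil => rfl
  | cons a F ih =>
    show Nat.add (colF a v) (Nat.mul 8 (code F v)) = Nat.add (colF a w) (Nat.mul 8 (code F w))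
    rw [h a List.mem_cons_self, ih fun b hb => h b (List.mem_cons_of_mem _ hb)]

theorem eq_one_of_closure {F : List ℕ} {ns : ℕ} {O : BTree} (h : closureOK ns F O = true)
    {π : Equiv.Perm (Fin 1755)} (hπ : ∀ u v, colM (π u) (π v) = colM u v)
    (hseed : ∀ i < ns, ∀ hi : F.getD i 0 < 1755, π ⟨F.getD i 0, hi⟩ = ⟨F.getD i 0, hi⟩) : π = 1 := by
  simp only [closureOK, Bool.and_eq_true, List.all_eq_true, List.mem_range, Bool.or_eq_true,
    Nat.blt_eq] at h
  obtain ⟨⟨⟨hu, hlt⟩, hO⟩, hmono⟩ := h
  have hmem : ∀ i < F.length, F.getD i 0 ∈ F := fun i hi => by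
    rw [List.getD_eq_getElem?_getD, List.getElem?_eq_getElem hi]; exact List.getElem_mem hi
  have hfix : ∀ i (hi : i < F.length), π ⟨F.getD i 0, hlt _ (hmem i hi)⟩ = ⟨F.getD i 0, hlt _ (hmem i hi)⟩ := by
    intro i
    induction i using Nat.strong_induction_on with
    | _ i ih =>
      intro hi
      rcases hu i hi with h1 | h1
      · exact hseed i h1 _
      · set v : Fin 1755 := ⟨F.getD i 0, hlt _ (hmem i hi)⟩
        have h2 := allBin_spec _ _ _ _ h1 (π v : ℕ) (Nat.zero_le _) (π v).2 (by omega)
        simp only [Bool.or_eq_true, Nat.beq_eq, Bool.not_eq_true'] at h2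
        rcases h2 with h2 | h2
        · exact Fin.ext h2
        · exfalso
          rw [List.all_eq_false] at h2
          obtain ⟨a, ha, hne⟩ := h2
          obtain ⟨j, hj, rfl⟩ := List.mem_iff_getElem.1 ha
          have hj' : j < i ∧ j < F.length := by
            rw [List.length_take] at hj; omega
          have hja : (F.take i)[j] = F.getD j 0 := by
            rw [List.getElem_take, List.getD_eq_getElem?_getD, List.getElem?_eq_getElem hj'.2]; rfl
          rw [hja] at hne
          have := hπ ⟨F.getD j 0, hlt _ (hmem j hj'.2)⟩ v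
          rw [ih j hj'.1 hj'.2] at this
          exact hne (by rw [Nat.beq_eq]; exact this)
  have hcode : ∀ x : Fin 1755, code F (π x : ℕ) = code F x := fun x => code_congr fun a ha => by
    obtain ⟨j, hj, rfl⟩ := List.mem_iff_getElem.1 ha
    have e : F[j] = F.getD j 0 := by rw [List.getD_eq_getElem?_getD, List.getElem?_eq_getElem hj]; rfl
    rw [e]
    have := hπ ⟨F.getD j 0, hlt _ (hmem j hj)⟩ x
    rw [hfix j hj] at this
    exact this
  let ord : Fin 1755 → Fin 1755 := fun i => ⟨O.half i,
    Nat.le_of_ble_eq_true (allBin_spec _ _ _ _ hO i (Nat.zero_le _) i.2 (by omega))⟩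
  have hsm : StrictMono fun i : Fin 1755 => code F (ord i : ℕ) := by
    refine Fin.strictMono_iff_lt_succ.2 fun i => ?_
    have := allBin_spec _ _ _ _ hmono i (Nat.zero_le _) i.2 (by omega)
    exact Nat.le_of_ble_eq_true this
  have hinj : Function.Injective ord := fun i j e => hsm.injective (by simp only [e])
  have hsurj := (Finite.injective_iff_surjective).1 hinj
  refine Equiv.ext fun x => ?_
  obtain ⟨i, hi⟩ := hsurj x
  obtain ⟨j, hj⟩ := hsurj (π x)
  have : code F (ord j : ℕ) = code F (ord i : ℕ) := by rw [hi, hj]; exact hcode x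
  rw [Equiv.Perm.one_apply, ← hj, ← hi, hsm.injective this]

end CfsgLib.Spor.RuRank
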