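import Cfsg.Agent.Lib.Spor.RuRank.Colour
import Cfsg.Agent.Lib.Spor.RuRank.CloseC
import Cfsg.Agent.Lib.Spor.RuRank.CloseT
import Cfsg.Agent.Lib.Spor.RuRank.ChainTw

/-!
The stabiliser acts faithfully on the lines, and four given words generate it.
-/

set_option autoImplicit false
set_option maxRecDepth 100000

namespace CfsgLib.Spor.RuRank

open CfsgLib.PresCert CfsgLib.RuGroup Cfsg.Spor

attribute [local irreducible] colW app el idT profT classBits vecT lane pkN sv vec profOf singleP

theorem wsTw_lt : ∀ w ∈ wsTw, ∀ a ∈ w, a < 8 := by decide +kernel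

theorem chainTw_img : chainImgOK (wsTw ++ wsTw.map iw) twPerm = true := by decide +kernel

theorem wordsGrp_tw : wordsGrp wsTw = ⊤ := by
  refine Subgroup.eq_top_of_le_card _ ?_
  rw [card_M]
  refine le_of_eq_of_le tw_prod.symm ?_
  exact chain_card_words wsTw_lt (g := 8) (by decide +kernel) chainTw_img tw_words tw_levels

theorem card_imgA : 35942400 ≤ Nat.card (MulAction.toPermHom M (Fin 1755)).range := by
  refine le_of_eq_of_le tw_prod.symm ?_
  refine PermData.le_card_of_hom (D := twPerm) (MulAction.toPermHom M (Fin 1755)).range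
    (MonoidHom.id (Equiv.Perm (Fin 1755))) (fun k hk => ?_) tw_words twLevels tw_levels
  have hlen : (wsTw ++ wsTw.map iw).length = 8 := by decide +kernel
  have hk' : k < (wsTw ++ wsTw.map iw).length := by rw [hlen]; exact hk
  have hw : (wsTw ++ wsTw.map iw).getD k [] ∈ wsTw ++ wsTw.map iw := by
    rw [List.getD_eq_getElem?_getD, List.getElem?_eq_getElem hk']; exact List.getElem_mem hk'
  have h8 : ∀ a ∈ (wsTw ++ wsTw.map iw).getD k [], a < 8 := by
    rcases List.mem_append.1 hw with h | h
    · exact wsTw_lt _ h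
    · obtain ⟨v, -, e⟩ := List.mem_map.1 h
      rw [← e]; exact iw_lt v
  refine ⟨_, ⟨mw ((wsTw ++ wsTw.map iw).getD k []), rfl⟩, fun i => ?_⟩
  show ((@HSMul.hSMul M (Fin 1755) (Fin 1755) _ (mw ((wsTw ++ wsTw.map iw).getD k [])) i : Fin 1755) : ℕ) = _
  refine (smulA_word h8 i).trans ?_
  exact Nat.eq_of_beq_eq_true (allBin_spec _ _ _ _
    (List.all_eq_true.1 chainTw_img k (List.mem_range.2 hk')) i (Nat.zero_le _) i.2
    (lt_of_lt_of_le i.2 (by decide +kernel)))

theorem toPerm_injective : Function.Injective (MulAction.toPermHom M (Fin 1755)) := by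
  have h : Nat.card M ≤ Nat.card (MulAction.toPermHom M (Fin 1755)).range := card_M ▸ card_imgA
  have hb : Function.Bijective (MulAction.toPermHom M (Fin 1755)).rangeRestrict :=
    (Nat.bijective_iff_surjective_and_card _).2 ⟨MonoidHom.rangeRestrict_surjective _,
      le_antisymm h (Nat.le_of_dvd Nat.card_pos (Subgroup.card_range_dvd _))⟩
  exact fun a b e => hb.1 (Subtype.ext e)

theorem eq_of_smulA {f g : M} (h : ∀ x : Fin 1755, f • x = g • x) : f = g :=
  toPerm_injective (Equiv.ext h)

/-- Elements agreeing on seeds of a closed list are equal. -/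
theorem eq_of_seeds {F : List ℕ} {ns : ℕ} {O : BTree} (h : closureOK ns F O = true) {f g : M}
    (hs : ∀ i < ns, ∀ hi : F.getD i 0 < 1755,
      f • (⟨F.getD i 0, hi⟩ : Fin 1755) = g • (⟨F.getD i 0, hi⟩ : Fin 1755)) : f = g := by
  have e : MulAction.toPermHom M (Fin 1755) (g⁻¹ * f) = 1 := by
    refine eq_one_of_closure h (fun u v => ?_) fun i hi hlt => ?_
    · exact colM_smul _ u v
    · show (g⁻¹ * f) • (⟨F.getD i 0, hlt⟩ : Fin 1755) = _
      rw [mul_smul, hs i hi hlt, inv_smul_smul]
  have := toPerm_injective (e.trans (map_one _).symm)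
  exact (inv_mul_eq_one.1 this).symm

end CfsgLib.Spor.RuRank
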