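import Cfsg.Agent.Lib.Spor.RuRank.Faith
import Cfsg.Agent.Lib.Spor.RuRank.DataTwist
import Cfsg.Agent.Lib.Chev.Tits2.TransMain

/-!
The group `²F₄(2)` is isomorphic to the stabiliser of a short vector of the Rudvalis lattice: both
act in the same way on the 1755 long root elements, respectively lines.
-/

set_option autoImplicit false
set_option maxRecDepth 100000

namespace CfsgLib.Spor.RuRank

open CfsgLib.PresCert Matrix Cfsg.Lie CfsgLib.Chev CfsgLib.Chev.F42.Two
open CfsgLib.Chev.Tits2 (appAW sem_appAW fix_le_of_gens)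

attribute [local irreducible] RuGroup.colW RuGroup.app RuGroup.el RuGroup.idT RuGroup.profT RuGroup.classBits RuGroup.vecT RuGroup.lane RuGroup.pkN RuGroup.sv RuGroup.vec RuGroup.profOf RuGroup.singleP

/-- A vector of the orbit. -/
noncomputable def ptT (i : Nat) : Nat := twPts.word i

/-- The generators as words in root elements. -/
def genT : List (List Nat) := [[33, 24], [14, 23], [27, 25, 28], [20, 22, 19]]

theorem genT_eq : genT = [CfsgLib.Chev.Tits2.wP, CfsgLib.Chev.Tits2.wPm, CfsgLib.Chev.Tits2.wA,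
    CfsgLib.Chev.Tits2.wAm] := rfl

theorem genT_lt : ∀ k < 4, ∀ r ∈ genT.getD k [], r < 48 := by decide +kernel

theorem twist_ok : ((List.range 4).all fun k => allBin 1755
    (fun i => Nat.beq (appAW (genT.getD k []) (ptT i)) (ptT (evalA (wsTw.getD k []) i))) 11 0) = true := by
  decide +kernel

theorem pts_ok : (allBin 1754 (fun i => Nat.blt (ptT (twOrd.half i)) (ptT (twOrd.half (Nat.add i (nat_lit 1))))) 11 0 &&
    allBin 1755 (fun i => Nat.blt (twOrd.half i) (nat_lit 1755) && Nat.blt (ptT i) (2 ^ 52)) 11 0) = true := by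
  decide +kernel

theorem sem_inj_small {x y : ℕ} (hx : x < 2 ^ 52) (hy : y < 2 ^ 52) (h : sem x = sem y) : x = y := by
  apply Nat.eq_of_testBit_eq
  intro c
  by_cases hc : c < 52
  · obtain ⟨i, hi⟩ := exists_idx (D := chevF4) (c := c) (show c < 52 from hc)
    have := congrFun h i
    simp only [sem, hi] at this
    revert this
    cases x.testBit c <;> cases y.testBit c <;> simp
  · rw [Nat.testBit_lt_two_pow (lt_of_lt_of_le hx (Nat.pow_le_pow_right two_pos (not_lt.1 hc))),
      Nat.testBit_lt_two_pow (lt_of_lt_of_le hy (Nat.pow_le_pow_right two_pos (not_lt.1 hc)))]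

theorem ptT_inj {x y : Fin 1755} (h : sem (ptT x) = sem (ptT y)) : x = y := by
  have hp := pts_ok
  simp only [Bool.and_eq_true] at hp
  have hb : ∀ i : Fin 1755, twOrd.half i < 1755 ∧ ptT i < 2 ^ 52 := fun i => by
    have := allBin_spec _ _ _ _ hp.2 i (Nat.zero_le _) i.2 (lt_of_lt_of_le i.2 (by norm_num))
    simp only [Bool.and_eq_true, Nat.blt_eq] at this
    exact this
  let ord : Fin 1755 → Fin 1755 := fun i => ⟨twOrd.half i, (hb i).1⟩
  have hsm : StrictMono fun i : Fin 1755 => ptT (ord i : ℕ) := by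
    refine Fin.strictMono_iff_lt_succ.2 fun i => ?_
    exact Nat.le_of_ble_eq_true (allBin_spec _ _ _ _ hp.1 i (Nat.zero_le _) i.2
      (lt_of_lt_of_le i.2 (by norm_num)))
  have hinj : Function.Injective ord := fun i j e => hsm.injective (by simp only [e])
  obtain ⟨i, rfl⟩ := (Finite.injective_iff_surjective).1 hinj x
  obtain ⟨j, rfl⟩ := (Finite.injective_iff_surjective).1 hinj y
  rw [hsm.injective (sem_inj_small (hb _).2 (hb _).2 h)]

/-- An element of `GL` and an element of the stabiliser act in the same way. -/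
def Match (g : GL chevF4.Idx K2) (f : M) : Prop :=
  ∀ i : Fin 1755, (g : Matrix chevF4.Idx chevF4.Idx K2) *ᵥ sem (ptT i) = sem (ptT (f • i : Fin 1755))

theorem Match.unique {g : GL chevF4.Idx K2} {f f' : M} (h : Match g f) (h' : Match g f') : f = f' :=
  eq_of_smulA fun i => ptT_inj ((h i).symm.trans (h' i))

theorem Match.mul {g g' : GL chevF4.Idx K2} {f f' : M} (h : Match g f) (h' : Match g' f') :
    Match (g * g') (f * f') := fun i => by
  rw [Units.val_mul, ← Matrix.mulVec_mulVec, h' i, h (f' • i), mul_smul]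

theorem Match.one : Match 1 1 := fun i => by rw [Units.val_one, Matrix.one_mulVec, one_smul]

theorem Match.inv {g : GL chevF4.Idx K2} {f : M} (h : Match g f) : Match g⁻¹ f⁻¹ := fun i => by
  have h1 := h (f⁻¹ • i)
  rw [smul_inv_smul] at h1
  rw [← h1, Matrix.mulVec_mulVec, ← Units.val_mul, inv_mul_cancel, Units.val_one, Matrix.one_mulVec]

/-- The elements matched by one of the stabiliser. -/
def matched : Subgroup (GL chevF4.Idx K2) where
  carrier := {g | ∃ f, Match g f}
  one_mem' := ⟨1, Match.one⟩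
  mul_mem' := fun ⟨_, h⟩ ⟨_, h'⟩ => ⟨_, h.mul h'⟩
  inv_mem' := fun ⟨_, h⟩ => ⟨_, h.inv⟩

theorem wsTw_getD {k : ℕ} (hk : k < 4) : ∀ a ∈ wsTw.getD k [], a < 8 := by
  interval_cases k <;> decide +kernel

theorem match_gen {k : ℕ} (hk : k < 4) : Match (prodX (genT.getD k [])) (mw (wsTw.getD k [])) := by
  intro i
  have h := allBin_spec _ _ _ _ (List.all_eq_true.1 twist_ok k (List.mem_range.2 hk)) i (Nat.zero_le _) i.2
    (lt_of_lt_of_le i.2 (by norm_num))
  rw [Nat.beq_eq] at h
  rw [← sem_appAW (genT_lt k hk), h, smulA_word (wsTw_getD hk)]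

theorem fix_le_matched : T.fix ≤ matched :=
  fix_le_of_gens ⟨_, match_gen (k := 0) (by norm_num)⟩ ⟨_, match_gen (k := 1) (by norm_num)⟩
    ⟨_, match_gen (k := 2) (by norm_num)⟩ ⟨_, match_gen (k := 3) (by norm_num)⟩

/-- The matching as a homomorphism. -/
noncomputable def matchHom : ↥T.fix →* M where
  toFun g := (fix_le_matched g.2).choose
  map_one' := (fix_le_matched (one_mem T.fix)).choose_spec.unique Match.one
  map_mul' g g' := (fix_le_matched (g * g').2).choose_spec.unique
    ((fix_le_matched g.2).choose_spec.mul (fix_le_matched g'.2).choose_spec)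

theorem gen_mem {k : ℕ} (hk : k < 4) : prodX (genT.getD k []) ∈ T.fix := by
  open CfsgLib.Chev.Tits2 in
  interval_cases k
  · exact cong_wP.1
  · exact cong_wPm.1
  · exact cong_wA.1
  · rw [show genT.getD 3 [] = wAm from rfl, ← wAm_eq]
    exact mul_mem (mul_mem (T.nJ_fix (by decide)) cong_wA.1) (inv_mem (T.nJ_fix (by decide)))

theorem matchHom_surj : Function.Surjective matchHom := by
  rw [← MonoidHom.range_eq_top, eq_top_iff, ← wordsGrp_tw, wordsGrp, Subgroup.closure_le]
  rintro f ⟨w, hw, rfl⟩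
  obtain ⟨k, hk, rfl⟩ := List.mem_iff_getElem.1 hw
  have hk4 : k < 4 := by rw [show wsTw.length = 4 from rfl] at hk; exact hk
  refine ⟨⟨_, gen_mem hk4⟩, ?_⟩
  rw [show wsTw[k] = wsTw.getD k [] by rw [List.getD_eq_getElem?_getD, List.getElem?_eq_getElem hk]; rfl]
  exact (fix_le_matched (gen_mem hk4)).choose_spec.unique (match_gen hk4)

/-- `²F₄(2)` is isomorphic to the stabiliser. -/
theorem nonempty_iso : Nonempty (↥(twistedF4 K2 1) ≃* M) := by
  haveI : Finite (GL chevF4.Idx K2) := finite_GL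
  rw [F42.twisted_eq_fix hσ hi]
  refine ⟨MulEquiv.ofBijective matchHom ((Nat.bijective_iff_surjective_and_card _).2 ⟨matchHom_surj, ?_⟩)⟩
  rw [CfsgLib.Chev.Tits2.card_fix, card_M]
  norm_num

end CfsgLib.Spor.RuRank
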