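import Cfsg.Agent.Lib.Spor.RuRank.Recog
import Cfsg.Agent.Lib.Spor.RuRank.AutBound
import Cfsg.Agent.Lib.Spor.RuRank.Twisted
import Cfsg.Agent.Lib.RuGroup.Lines

/-!
The Rudvalis group acts on the lines of short vectors with subdegrees 1755 and 2304, and a rank
three group with these subdegrees and point stabiliser `²F₄(2)` is isomorphic to it.
-/

set_option autoImplicit false
set_option maxRecDepth 100000

namespace CfsgLib.Spor.RuRank

open CfsgLib.PresCert CfsgLib.RuGroup CfsgLib.LocalEven.RuRootless Cfsg.Spor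

attribute [local irreducible] colW app el idT profT classBits vecT lane pkN sv vec profOf singleP

section Embed

variable {Ω : Type*} [Fintype Ω] [DecidableEq Ω] {G : Subgroup (Equiv.Perm Ω)} {a : Ω}

omit [Fintype Ω] [DecidableEq Ω] in
/-- A group preserving the graph through a numbering, as a subgroup of its automorphisms. -/
theorem exists_embed {σ : V ≃ Ω}
    (h : ∀ (g : G) u v, Delta (σ.symm (g • σ u)) (σ.symm (g • σ v)) = Delta u v) :
    ∃ ι : G →* autDelta, Function.Injective ι := by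
  refine ⟨((σ.symm.permCongrHom.toMonoidHom.comp G.subtype).codRestrict autDelta fun g => h g), fun g g' e => ?_⟩
  have := congrArg (fun d : autDelta => (d : Equiv.Perm V)) e
  exact Subtype.ext (σ.symm.permCongrHom.injective this)

omit [DecidableEq Ω] in
theorem card_group [MulAction.IsPretransitive G Ω] (hΩ : Fintype.card Ω = 4060)
    (φ : M ≃* MulAction.stabilizer G a) : Nat.card G = 4060 * 35942400 := by
  have h := Subgroup.card_mul_index (MulAction.stabilizer G a)
  rw [MulAction.index_stabilizer_of_transitive, Nat.card_eq_fintype_card (α := Ω), hΩ,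
    ← Nat.card_congr φ.toEquiv, card_M] at h
  rw [← h, mul_comm]

end Embed

/-! ### The Rudvalis group on lines -/

/-- The group induced on lines. -/
noncomputable abbrev RuP : Subgroup (Equiv.Perm (Fin 4060)) := lineHom.range

/-- The stabiliser of a vector into the stabiliser of its line. -/
noncomputable def toStab : M →* MulAction.stabilizer RuP (0 : Fin 4060) where
  toFun f := ⟨⟨lineHom f, f, rfl⟩, (lineHom_zero f).2 (baseFix_one_le f.2)⟩
  map_one' := Subtype.ext (Subtype.ext (map_one lineHom))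
  map_mul' a b := Subtype.ext (Subtype.ext (map_mul lineHom (a : fourRu) b))

theorem toStab_bij : Function.Bijective toStab := by
  constructor
  · intro a b h
    have h' : lineHom a = lineHom b :=
      congrArg (fun x : MulAction.stabilizer RuP (0 : Fin 4060) => ((x : RuP) : Equiv.Perm (Fin 4060))) h
    have hm : (a : fourRu)⁻¹ * b ∈ scalars := by
      rw [← ker_lineHom, MonoidHom.mem_ker, map_mul, map_inv, h', inv_mul_cancel]
    refine Subtype.ext (inv_mul_eq_one.1 (eq_one_of_central_fix (scalars_le hm) ?_))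
    rw [mul_smul, inv_smul_eq_iff]
    exact ((b.2 0 (by norm_num)).trans (a.2 0 (by norm_num)).symm)
  · rintro ⟨⟨_, f, rfl⟩, hs⟩
    obtain ⟨k, hk'⟩ := (lineHom_zero f).1 hs
    refine ⟨⟨rotG ^ k * f, fix_one_of_zero (by rw [mul_smul, hk'])⟩, Subtype.ext (Subtype.ext ?_)⟩
    show lineHom (rotG ^ k * f) = lineHom f
    rw [map_mul, show lineHom (rotG ^ k) = 1 by
      rw [← MonoidHom.mem_ker, ker_lineHom]; exact rot_pow_mem k, one_mul]

instance transR : MulAction.IsPretransitive RuP (Fin 4060) := ⟨fun x y => by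
  obtain ⟨p, rfl⟩ := lineEquiv.surjective x
  obtain ⟨q, rfl⟩ := lineEquiv.surjective y
  obtain ⟨f, hf⟩ := MulAction.exists_smul_eq fourRu p q
  exact ⟨⟨lineHom f, f, rfl⟩, (lineHom_apply f p).trans (congrArg lineEquiv hf)⟩⟩

theorem dot_rot_left (x y : X) : dot (rotX x) y = -dot x (rotX y) := by
  have h := dot_rotX x (rotX y)
  rw [rotX_rotX] at h
  rw [← h]
  simp [dot, Finset.sum_neg_distrib]

theorem sv_rotG (w : Fin 16240) : sv ((rotG • w : Fin 16240) : ℕ) = rotX (sv w) :=
  congrArg Subtype.val ((smul_spec rotG w).symm.trans (endoOf_rotG (pv w)))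

theorem pdot_rot (v : Fin 16240) :
    pdot ((rotG • v : Fin 16240) : ℕ) 0 = -pdot v 1 ∧ pdot ((rotG • v : Fin 16240) : ℕ) 1 = pdot v 0 := by
  have r0 : sv (profVec 1) = rotX (sv (profVec 0)) := by
    rw [show profVec 1 = baseI.getD 0 0 from (profVec_vals ⟨1, by norm_num⟩).1,
      show profVec 0 = baseL.getD 0 0 from (profVec_vals ⟨0, by norm_num⟩).1]
    exact sv_baseI ⟨0, by norm_num⟩
  unfold pdot
  exact ⟨by rw [sv_rotG, r0, dot_rot_left], by rw [sv_rotG, r0, dot_rotX]⟩

theorem rot_comm' (f : fourRu) (m : ℕ) : f * rotG ^ m = rotG ^ m * f :=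
  ((show Commute f rotG from rotG_central f).pow_right m).eq

/-- The real and the imaginary part of the product with the first vector. -/
noncomputable def pp (v : Fin 16240) : ℤ × ℤ := (pdot v 0, pdot v 1)

theorem pp_rot_pow (v : Fin 16240) : ∀ k, pp (rotG ^ k • v) =
    (fun p : ℤ × ℤ => (-p.2, p.1))^[k] (pp v)
  | 0 => by rw [pow_zero, one_smul]; rfl
  | k + 1 => by
    rw [pow_succ', mul_smul, Function.iterate_succ_apply', ← pp_rot_pow v k]
    exact Prod.ext (pdot_rot _).1 (pdot_rot _).2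

theorem rot_rot (p : ℤ × ℤ) : (fun p : ℤ × ℤ => (-p.2, p.1))^[2] p = (-p.1, -p.2) := rfl

theorem pp_rot_eq_zero (v : Fin 16240) (k : ℕ) : pp (rotG ^ k • v) = 0 ↔ pp v = 0 := by
  induction k with
  | zero => rw [pow_zero, one_smul]
  | succ k ih =>
    rw [pp_rot_pow, Function.iterate_succ_apply', ← pp_rot_pow, ← ih]
    simp [Prod.ext_iff, and_comm]

theorem eq_of_pp {u v : Fin 16240} {k : ℕ} (h : rotG ^ k • u = v) (hp : pp u = pp v) (hne : pp u ≠ 0) :
    u = v := by
  have e : rotG ^ k = rotG ^ (k % 4) := by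
    conv_lhs => rw [← Nat.mod_add_div k 4, pow_add, pow_mul, rotG_pow_four, one_pow, mul_one]
  rw [e] at h
  have h4 : k % 4 < 4 := Nat.mod_lt _ (by norm_num)
  have := pp_rot_pow u (k % 4)
  rw [h, ← hp] at this
  revert h4 this h
  generalize k % 4 = j
  intro h h4 this
  interval_cases j
  · rw [pow_zero, one_smul] at h; exact h
  all_goals exfalso; apply hne; simp [Prod.ext_iff] at this ⊢; omega

/-- The line of a vector. -/
noncomputable def lineC (v : Fin 16240) : Fin 4060 :=
  lineEquiv ((top_transitive v).choose : fourRu ⧸ lineGrp)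

theorem lineC_eq (f : fourRu) : lineC (f • (0 : Fin 16240)) = lineEquiv (f : fourRu ⧸ lineGrp) := by
  refine congrArg lineEquiv (QuotientGroup.eq.2 ?_)
  obtain ⟨-, h⟩ := (top_transitive (f • (0 : Fin 16240))).choose_spec
  exact ⟨0, by rw [pow_zero, one_smul, mul_smul, inv_smul_eq_iff]; exact h.symm⟩

theorem rot_of_lineC {u v : Fin 16240} (h : lineC u = lineC v) : ∃ k : ℕ, rotG ^ k • v = u := by
  obtain ⟨f, -, rfl⟩ := top_transitive u
  obtain ⟨g, -, rfl⟩ := top_transitive v
  rw [lineC_eq, lineC_eq] at h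
  obtain ⟨k, hk⟩ := QuotientGroup.eq.1 (lineEquiv.injective h)
  refine ⟨k, ?_⟩
  have h2 := congrArg (fun x => f • x) hk
  rw [← mul_smul, ← mul_smul, ← mul_assoc, rot_comm', mul_assoc, mul_assoc, mul_inv_cancel_left] at h2
  rw [← h2, mul_smul]

theorem lineC_smul (f : fourRu) (v : Fin 16240) : lineHom f (lineC v) = lineC (f • v) := by
  obtain ⟨g, -, rfl⟩ := top_transitive v
  rw [lineC_eq, lineHom_apply, ← mul_smul, lineC_eq]
  rfl

theorem root_pp : pp (slotRoot 0) ≠ 0 ∧ pp (slotRoot 4) = 0 ∧ pp 0 ≠ 0 := by decide +kernel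

theorem root_turns : ∀ k : Fin 4, (fun p : ℤ × ℤ => (-p.2, p.1))^[(k : ℕ)] (pp (slotRoot 0)) ≠ pp 0 := by
  decide +kernel

theorem pp_smul {f : fourRu} (hf : f ∈ baseFix 1) (v : Fin 16240) : pp (f • v) = pp v :=
  Prod.ext (pdot_smul hf v (by norm_num) (by norm_num)) (pdot_smul hf v (by norm_num) (by norm_num))

theorem pp_line {u v : Fin 16240} (h : lineC u = lineC v) : pp u = 0 ↔ pp v = 0 := by
  obtain ⟨k, rfl⟩ := rot_of_lineC h
  exact pp_rot_eq_zero v k

theorem toStab_smul (f : M) (v : Fin 16240) :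
    toStab f • lineC v = lineC ((f : fourRu) • v) := lineC_smul f v

theorem orbit_line_ncard :
    (MulAction.orbit (MulAction.stabilizer RuP (0 : Fin 4060)) (lineC (slotRoot 0))).ncard = 2304 ∧
    (MulAction.orbit (MulAction.stabilizer RuP (0 : Fin 4060)) (lineC (slotRoot 4))).ncard = 1755 := by
  classical
  set H := MulAction.stabilizer RuP (0 : Fin 4060)
  have ho : ∀ v, MulAction.orbit H (lineC v) = lineC '' (Set.range fun f : M => (f : fourRu) • v) := by
    intro v
    ext x
    constructor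
    · rintro ⟨h, rfl⟩
      obtain ⟨f, rfl⟩ := toStab_bij.2 h
      exact ⟨_, ⟨f, rfl⟩, (toStab_smul f v).symm⟩
    · rintro ⟨_, ⟨f, rfl⟩, rfl⟩
      exact ⟨toStab f, toStab_smul f v⟩
  have hB : (MulAction.orbit H (lineC (slotRoot 0))).ncard = 2304 := by
    rw [ho, Set.InjOn.ncard_image]
    · have e : (Set.range fun f : M => (f : fourRu) • slotRoot 0) = slotClass 0 := orbit_eq 0 (by norm_num)
      rw [e, ncard_slotClass]
      rfl
    · rintro _ ⟨f, rfl⟩ _ ⟨g, rfl⟩ h
      obtain ⟨k, hk⟩ := rot_of_lineC h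
      exact (eq_of_pp hk (by rw [pp_smul f.2, pp_smul g.2]) (by rw [pp_smul g.2]; exact root_pp.1)).symm
  refine ⟨hB, le_antisymm ?_ ?_⟩
  · have h0 : lineC 0 = (0 : Fin 4060) := by
      have := lineC_eq (1 : fourRu)
      rw [one_smul] at this
      rw [this]; exact lineEquiv_one
    have hd : Disjoint (MulAction.orbit H (lineC (slotRoot 4)))
        (insert (0 : Fin 4060) (MulAction.orbit H (lineC (slotRoot 0)))) := by
      rw [Set.disjoint_left, ho, ho, ← h0]
      rintro _ ⟨_, ⟨f, rfl⟩, rfl⟩ h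
      have hz : pp ((f : fourRu) • slotRoot 4) = 0 := by rw [pp_smul f.2]; exact root_pp.2.1
      rcases h with h | ⟨_, ⟨g, rfl⟩, h⟩
      · exact root_pp.2.2 ((pp_line h).1 hz)
      · have := (pp_line h).2 hz
        rw [pp_smul g.2] at this
        exact root_pp.1 this
    have hins : (insert (0 : Fin 4060) (MulAction.orbit H (lineC (slotRoot 0)))).ncard = 2305 := by
      rw [Set.ncard_insert_of_notMem ?_ (Set.toFinite _), hB]
      rw [ho, ← h0]
      rintro ⟨_, ⟨g, rfl⟩, h⟩
      obtain ⟨k, hk⟩ := rot_of_lineC h.symm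
      have e : rotG ^ k = rotG ^ (k % 4) := by
        conv_lhs => rw [← Nat.mod_add_div k 4, pow_add, pow_mul, rotG_pow_four, one_pow, mul_one]
      have h2 := pp_rot_pow ((g : fourRu) • slotRoot 0) (k % 4)
      rw [← e, hk, pp_smul g.2] at h2
      exact root_turns ⟨k % 4, Nat.mod_lt _ (by norm_num)⟩ h2.symm
    have := Set.ncard_union_eq hd (Set.toFinite _) (Set.toFinite _)
    have hle := (Set.ncard_le_ncard (Set.subset_univ
      (MulAction.orbit H (lineC (slotRoot 4)) ∪ insert (0 : Fin 4060) (MulAction.orbit H (lineC (slotRoot 0)))))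
      (Set.toFinite _)).trans (le_of_eq (by rw [Set.ncard_univ, Nat.card_fin]))
    omega
  · have hsub : (slotClass 4).ncard ≤ 4 * (MulAction.orbit H (lineC (slotRoot 4))).ncard := by
      rw [ho]
      set S := Set.range fun f : M => (f : fourRu) • slotRoot 4
      have hcl : slotClass 4 ⊆ S := by
        intro v hv
        obtain ⟨i, hi, he⟩ := (slot_mem v.2).1 hv
        obtain ⟨f, hf, hfe⟩ := slot_reach 4 hi
        exact ⟨⟨f, hf.2⟩, hfe.trans (Fin.ext he)⟩
      refine (Set.ncard_le_ncard hcl (Set.toFinite _)).trans ?_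
      rw [Set.ncard_eq_toFinset_card', Set.ncard_eq_toFinset_card', Set.toFinset_image]
      refine Finset.card_le_mul_card_image _ 4 fun b hb => ?_
      obtain ⟨u, -, rfl⟩ := Finset.mem_image.1 hb
      refine (Finset.card_le_card (t := (Finset.range 4).image fun k => rotG ^ k • u) fun v hv => ?_).trans
        (Finset.card_image_le.trans (by simp))
      obtain ⟨k, rfl⟩ := rot_of_lineC (Finset.mem_filter.1 hv).2
      refine Finset.mem_image.2 ⟨k % 4, Finset.mem_range.2 (Nat.mod_lt _ (by norm_num)), ?_⟩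
      conv_rhs => rw [← Nat.mod_add_div k 4, pow_add, pow_mul, rotG_pow_four, one_pow, mul_one]
    rw [ncard_slotClass] at hsub
    rw [show slotSize 4 = 7020 from rfl] at hsub
    omega

theorem embed_bij (hN : Nat.card autDelta ≤ 4060 * 35942400) {Γ : Type*} [Group Γ] (ι : Γ →* autDelta)
    (hι : Function.Injective ι) (hcard : Nat.card Γ = 4060 * 35942400) : Function.Bijective ι := by
  haveI := Finite.of_injective ι hι
  exact (Nat.bijective_iff_injective_and_card ι).2
    ⟨hι, le_antisymm (Nat.card_le_card_of_injective ι hι) (hcard ▸ hN)⟩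

/-- A rank three group of degree 4060 with stabiliser `²F₄(2)` is the Rudvalis group. -/
theorem iso_ru {Ω : Type*} [Fintype Ω] [DecidableEq Ω] (hΩ : Fintype.card Ω = 4060)
    (G : Subgroup (Equiv.Perm Ω)) [MulAction.IsPretransitive G Ω] (a : Ω)
    (e : MulAction.stabilizer G a ≃* Cfsg.Lie.twistedF4 (ZMod 2) 1) (b c : Ω)
    (hb : (MulAction.orbit (MulAction.stabilizer G a) b).ncard = 1755)
    (hc : (MulAction.orbit (MulAction.stabilizer G a) c).ncard = 2304) : IsoRu G := by
  classical
  obtain ⟨t⟩ := nonempty_iso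
  let φ : M ≃* MulAction.stabilizer G a := t.symm.trans e.symm
  let ψ : M ≃* MulAction.stabilizer RuP (0 : Fin 4060) := MulEquiv.ofBijective toStab toStab_bij
  obtain ⟨hcR, hbR⟩ := orbit_line_ncard
  obtain ⟨σ, -, -, hσ⟩ := exists_sigma hΩ φ hb hc
  obtain ⟨τ, -, hτe, hτ⟩ := exists_sigma (Fintype.card_fin _) ψ hbR hcR
  have hinv : ∀ f u v, Delta (smulV f u) (smulV f v) = Delta u v := fun f u v => by
    have h := hτ (ψ f : RuP) u v
    rwa [← Equiv.symm_apply_apply τ (smulV f u), ← Equiv.symm_apply_apply τ (smulV f v), hτe, hτe]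
  have hN := card_autDelta hinv
  haveI : Finite autDelta := inferInstance
  obtain ⟨ι, hι⟩ := exists_embed hσ
  obtain ⟨κ, hκ⟩ := exists_embed hτ
  let eG := MulEquiv.ofBijective ι (embed_bij hN ι hι (card_group hΩ φ))
  let eR := MulEquiv.ofBijective κ (embed_bij hN κ hκ (card_group (Fintype.card_fin _) ψ))
  have hk : Subgroup.center fourRu = lineHom.ker := by rw [ker_lineHom, center_eq]
  let eRu : Ru ≃* RuP := (QuotientGroup.quotientMulEquivOfEq hk).trans (QuotientGroup.quotientKerEquivRange lineHom)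
  exact ⟨(eG.trans eR.symm).trans eRu.symm⟩

end CfsgLib.Spor.RuRank
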