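import Cfsg.Agent.Lib.Spor.RuRank.Classes

/-!
The rank three graph on `4060` points defined from the suborbits of `²F₄(2)`.
-/

set_option autoImplicit false
set_option maxRecDepth 100000

namespace CfsgLib.Spor.RuRank

open CfsgLib.PresCert CfsgLib.RuGroup Cfsg.Spor

attribute [local irreducible] colW app el idT profT classBits vecT lane pkN sv vec profOf singleP

/-- The points: one fixed point, the lines, and the class of 2304. -/
abbrev V : Type := Option (Fin 1755 ⊕ Fin 2304)

/-- The action of the stabiliser on the points. -/
noncomputable def smulV (f : M) : V → V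
  | none => none
  | some (Sum.inl x) => some (Sum.inl (f • x))
  | some (Sum.inr z) => some (Sum.inr (f • z))

/-- Adjacency between a line and a point of the class. -/
noncomputable def adjAB (u z : Nat) : Bool := sbit (evalW piT (bA u) z)

/-- Adjacency inside the class. -/
noncomputable def adjBB (z z' : Nat) : Bool := Nat.beq (colB (evalW piT (bB z) z')) (nat_lit 5)

/-- The graph. -/
noncomputable def Delta : V → V → Bool
  | none, none => false
  | none, some (Sum.inl _) => true
  | none, some (Sum.inr _) => false
  | some (Sum.inl _), none => true
  | some (Sum.inr _), none => false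
  | some (Sum.inl u), some (Sum.inl v) => adjc (colM u v)
  | some (Sum.inl u), some (Sum.inr z) => adjAB u z
  | some (Sum.inr z), some (Sum.inl u) => adjAB u z
  | some (Sum.inr z), some (Sum.inr z') => adjBB z z'

/-- The automorphisms of the graph. -/
def autDelta : Subgroup (Equiv.Perm V) where
  carrier := {d | ∀ u v, Delta (d u) (d v) = Delta u v}
  one_mem' _ _ := rfl
  mul_mem' {d e} hd he u v := by rw [Equiv.Perm.mul_apply, Equiv.Perm.mul_apply, hd, he]
  inv_mem' {d} hd u v := by
    have h := hd (d⁻¹ u) (d⁻¹ v)
    simp only [Equiv.Perm.coe_inv, Equiv.apply_symm_apply] at h ⊢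
    exact h.symm

theorem card_V : Fintype.card V = 4060 := by simp

end CfsgLib.Spor.RuRank
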