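import Cfsg.Agent.Lib.Spor.RuRank.StabB

/-!
The seven cosets of involutions over the element of order four, and the conclusion on subgroups of
order `15600`.
-/

set_option autoImplicit false
set_option maxRecDepth 100000

namespace CfsgLib.Spor.RuRank

open CfsgLib.PresCert CfsgLib.RuGroup Cfsg.Spor

attribute [local irreducible] colW app el idT profT classBits vecT lane pkN sv vec profOf singleP

/-- The colours expected for an element normalising the element of order four. -/
noncomputable def patT (b k : Nat) : Bool :=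
  List.rec (motive := fun _ => Bool) true
    (fun j _ ih => Nat.beq (colF b (evalA (tw4 (Nat.mod (Nat.mul k j) (nat_lit 4))) b))
      (colF (nat_lit 2) (evalA (tw4 j) (nat_lit 2))) && ih) [1, 2, 3]

/-- The entry of a candidate. -/
noncomputable def codeT (b k : Nat) : Nat :=
  tabT.half (Nat.add (Nat.mul (Nat.div k (nat_lit 2)) (nat_lit 1755)) b)

theorem tabT_ok : allBin 1755 (fun b =>
    (!patT b 1 || Nat.blt 0 (codeT b 1) && Nat.ble (codeT b 1) 768) &&
      (!patT b 3 || Nat.blt 0 (codeT b 3) && Nat.ble (codeT b 3) 768)) 11 0 = true := by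
  decide +kernel

/-- The word of a candidate. -/
noncomputable def elWord (n : Nat) : List Nat := dec (nat_lit 16) (elW.word n)

/-- A candidate agrees on the seeds with a word. -/
noncomputable def seedEq (w : List Nat) (b k : Nat) : Bool :=
  (List.range 4).all fun j =>
    Nat.beq (evalA w (evalA (tw4 j) 2)) (evalA (tw4 (Nat.mod (Nat.mul k j) 4)) b)

/-- Two words agree on the seeds. -/
noncomputable def seedSame (u w : List Nat) : Bool :=
  (List.range 4).all fun j => Nat.beq (evalA u (evalA (tw4 j) 2)) (evalA w (evalA (tw4 j) 2))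

/-- The word of a coset. -/
noncomputable def cosWord (v : Nat) : List Nat := cosW.getD (Nat.div v 4) [] ++ tw4 (Nat.mod v 4)

/-- A good candidate is listed with a word and a class. -/
noncomputable def goodOK (b k : Nat) : Bool :=
  Bool.rec true
    ((fun n u => lettersOK u && seedEq u b k &&
      (fun c v =>
        (Nat.beq c 1 && ((List.range 4).all fun j => !seedSame (u ++ u) (tw4 j))) ||
        (Nat.beq c 2 && Nat.blt v 4 && seedSame u (tw4 v)) ||
        (Nat.beq c 3 && Nat.blt (Nat.div v 4) 7 && seedSame u (cosWord v)))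
        (Nat.land (elCls.half n) 3) (Nat.shiftRight (elCls.half n) 2))
      (Nat.sub (codeT b k) 1) (elWord (Nat.sub (codeT b k) 1)))
    (Nat.blt 0 (codeT b k) && Nat.ble (codeT b k) 384)

/-- A spurious candidate reduces to the refuted one. -/
noncomputable def badOK (b k : Nat) : Bool :=
  Bool.rec true
    ((fun g => lettersOK g && (List.range 4).all fun j =>
      Nat.beq (evalA g (evalA (tw4 (Nat.mod (Nat.mul k j) 4)) b))
        (evalA (tw4 (Nat.mod (Nat.mul (badPt.getD 1 0) j) 4)) (badPt.getD 0 0)))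
      (elWord (badG.half (Nat.sub (codeT b k) 385))))
    (Nat.blt 384 (codeT b k))

theorem good_ok : allBin 1755 (fun b => goodOK b 1 && goodOK b 3) 11 0 = true := by decide +kernel

theorem bad_ok : allBin 1755 (fun b => badOK b 1 && badOK b 3) 11 0 = true := by decide +kernel

/-- The refutation of one candidate. -/
noncomputable def refuteOK : Bool :=
  (fun src im v1 x1 v2 x x' =>
    (allBin 1755 (fun y => Nat.beq y x1 || !((List.range 4).all fun j =>
      Nat.beq (colF (im j) y) (colF (src j) v1))) 11 0) &&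
    uniqOK [src 0, src 1, src 2, src 3, v1] v2 && Nat.blt v1 1755 && Nat.blt x1 1755 && Nat.blt v2 1755 &&
    Nat.blt x 1755 && Nat.blt x' 1755 && !Nat.beq x x' &&
    ((List.range 4).all fun j => Nat.beq (colF (im j) x) (colF (src j) v2)) &&
    ((List.range 4).all fun j => Nat.beq (colF (im j) x') (colF (src j) v2)) &&
    Nat.beq (colF x1 x) (colF v1 v2) && Nat.beq (colF x1 x') (colF v1 v2))
    (fun j => evalA (tw4 j) 2)
    (fun j => evalA (tw4 (Nat.mod (Nat.mul (badPt.getD 1 0) j) 4)) (badPt.getD 0 0))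
    (badPt.getD 2 0) (badPt.getD 3 0) (badPt.getD 4 0) (badPt.getD 5 0) (badPt.getD 6 0)

theorem refute_ok : refuteOK = true := by decide +kernel

theorem refute (f : M) (h : ∀ j < 4, ((f • (t0 ^ j • (2 : Fin 1755)) : Fin 1755) : ℕ) =
    evalA (tw4 (Nat.mod (Nat.mul (badPt.getD 1 0) j) 4)) (badPt.getD 0 0)) : False := by
  have hr := refute_ok
  simp only [refuteOK, Bool.and_eq_true, List.all_eq_true, List.mem_range, Nat.beq_eq, Nat.blt_eq] at hr
  obtain ⟨⟨⟨⟨⟨⟨⟨⟨⟨⟨⟨h1, h2⟩, hv1⟩, hx1⟩, hv2⟩, hx⟩, hx'⟩, hne⟩, hcx⟩, hcx'⟩, hc1⟩, hc1'⟩ := hr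
  have hcol : ∀ j < 4, ∀ y : Fin 1755,
      colF (evalA (tw4 (Nat.mod (Nat.mul (badPt.getD 1 0) j) 4)) (badPt.getD 0 0)) (f • y : Fin 1755) =
        colF (evalA (tw4 j) 2) y := by
    intro j hj y
    have e := colM_smul f (t0 ^ j • (2 : Fin 1755)) y
    rw [colM, colM, h j hj, smul_tw4] at e
    exact e
  set V1 : Fin 1755 := ⟨_, hv1⟩
  have e1 : ((f • V1 : Fin 1755) : ℕ) = badPt.getD 3 0 := by
    have := allBin_spec _ _ _ _ h1 ((f • V1 : Fin 1755) : ℕ) (Nat.zero_le _) (f • V1).2
      (lt_of_lt_of_le (f • V1).2 (by norm_num))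
    simp only [Bool.or_eq_true, Nat.beq_eq, Bool.not_eq_true'] at this
    refine this.resolve_right ?_
    rw [Bool.not_eq_false, List.all_eq_true]
    intro j hj
    rw [Nat.beq_eq]
    exact hcol j (List.mem_range.1 hj) V1
  have key : ∀ z : Fin 1755, (∀ j < 4,
      colF (evalA (tw4 (Nat.mod (Nat.mul (badPt.getD 1 0) j) 4)) (badPt.getD 0 0)) z =
        colF (evalA (tw4 j) 2) (badPt.getD 4 0)) →
      colF (badPt.getD 3 0) z = colF (badPt.getD 2 0) (badPt.getD 4 0) →
      f⁻¹ • z = (⟨_, hv2⟩ : Fin 1755) := by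
    intro z hz hz1
    have hu := allBin_spec _ _ _ _ h2 ((f⁻¹ • z : Fin 1755) : ℕ) (Nat.zero_le _) (f⁻¹ • z).2
      (lt_of_lt_of_le (f⁻¹ • z).2 (by norm_num))
    simp only [Bool.or_eq_true, Nat.beq_eq, Bool.not_eq_true'] at hu
    refine Fin.ext (hu.resolve_right ?_)
    rw [Bool.not_eq_false]
    have hk : ∀ j < 4, colF (evalA (tw4 j) 2) (f⁻¹ • z : Fin 1755) =
        colF (evalA (tw4 j) 2) (badPt.getD 4 0) := fun j hj => by
      rw [← hcol j hj (f⁻¹ • z), smul_inv_smul]; exact hz j hj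
    have hk1 : colF (badPt.getD 2 0) (f⁻¹ • z : Fin 1755) = colF (badPt.getD 2 0) (badPt.getD 4 0) := by
      have e := colM_smul f V1 (f⁻¹ • z)
      rw [colM, colM, e1, smul_inv_smul] at e
      rw [← hz1]; exact e.symm
    rw [List.all_eq_true]
    intro a ha
    rw [Nat.beq_eq]
    simp only [List.mem_cons, List.not_mem_nil, or_false] at ha
    rcases ha with rfl | rfl | rfl | rfl | rfl
    exacts [hk 0 (by norm_num), hk 1 (by norm_num), hk 2 (by norm_num), hk 3 (by norm_num), hk1]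
  have a := key ⟨_, hx⟩ hcx hc1
  have b := key ⟨_, hx'⟩ hcx' hc1'
  have hEq := smul_left_cancel f⁻¹ (a.trans b.symm)
  have hv : badPt.getD 5 0 = badPt.getD 6 0 := congrArg Fin.val hEq
  rw [hv] at hne
  simp at hne

theorem smul_seed (w : List ℕ) (hw : ∀ a ∈ w, a < 8) (j : ℕ) :
    ((mw w • (t0 ^ j • (2 : Fin 1755)) : Fin 1755) : ℕ) = evalA w (evalA (tw4 j) 2) := by
  rw [smulA_word hw, smul_tw4]; rfl

theorem eq_of_seedSame {u w : List ℕ} (hu : ∀ a ∈ u, a < 8) (hw : ∀ a ∈ w, a < 8)
    (h : seedSame u w = true) : mw u = mw w := eq_of_T fun j hj => Fin.ext (by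
  rw [smul_seed u hu, smul_seed w hw]
  simp only [seedSame, List.all_eq_true, List.mem_range, Nat.beq_eq] at h
  exact h j hj)

theorem cosW_lt : cosW.length = 7 ∧ ∀ w ∈ cosW, ∀ a ∈ w, a < 8 := by decide +kernel

theorem cosWord_lt {v : ℕ} (h : v / 4 < 7) : ∀ a ∈ cosWord v, a < 8 := fun a ha => by
  rcases List.mem_append.1 ha with h' | h'
  · refine cosW_lt.2 _ ?_ a h'
    show cosW.getD (v / 4) [] ∈ cosW
    rw [List.getD_eq_getElem?_getD, List.getElem?_eq_getElem (by rw [cosW_lt.1]; exact h)]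
    exact List.getElem_mem _
  · exact (tw4_spec _).2 a h'

/-- An element normalising the element of order four lies in a coset of the list, if its square
lies in the cyclic group but it does not. -/
theorem coset_mem {r : M} {k : ℕ} (hk : k = 1 ∨ k = 3) (hr : r * t0 = t0 ^ k * r)
    (hsq : ∃ j < 4, r * r = t0 ^ j) (hout : ∀ j < 4, r ≠ t0 ^ j) :
    ∃ m < 7, ∃ j, r = mw (cosW.getD m []) * t0 ^ j := by
  have hseed : ∀ j, ((r • (t0 ^ j • (2 : Fin 1755)) : Fin 1755) : ℕ) =
      evalA (tw4 (k * j % 4)) (r • (2 : Fin 1755) : Fin 1755) := by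
    intro j
    have h : r * t0 ^ j = t0 ^ (k * j) * r := by
      induction j with
      | zero => simp
      | succ j ih => rw [pow_succ, ← mul_assoc, ih, mul_assoc, hr, ← mul_assoc, ← pow_add, Nat.mul_succ]
    have h2 : t0 ^ (k * j) = t0 ^ (k * j % 4) := by
      conv_lhs => rw [← Nat.mod_add_div (k * j) 4, pow_add, pow_mul, t0_pow_four, one_pow, mul_one]
    rw [← mul_smul, h, h2, mul_smul, smul_tw4]
  set b : ℕ := ((r • (2 : Fin 1755) : Fin 1755) : ℕ)
  have hb : b < 1755 := (r • (2 : Fin 1755)).2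
  have hb2 : b < 2 ^ 11 := lt_of_lt_of_le hb (by norm_num)
  have hpat : patT b k = true := by
    have key : ∀ j, Nat.beq (colF b (evalA (tw4 (Nat.mod (Nat.mul k j) 4)) b))
        (colF 2 (evalA (tw4 j) 2)) = true := by
      intro j
      rw [Nat.beq_eq]
      have e := colM_smul r 2 (t0 ^ j • (2 : Fin 1755))
      rw [colM, colM, hseed, smul_tw4] at e
      exact e
    simp only [patT, key, Bool.and_self]
  have ht := allBin_spec _ _ _ _ tabT_ok b (Nat.zero_le _) hb (by omega)
  have hg := allBin_spec _ _ _ _ good_ok b (Nat.zero_le _) hb (by omega)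
  have hd := allBin_spec _ _ _ _ bad_ok b (Nat.zero_le _) hb (by omega)
  simp only [Bool.and_eq_true, Bool.or_eq_true, Bool.not_eq_true', Nat.blt_eq, Nat.ble_eq] at ht hg hd
  have hcode : 0 < codeT b k ∧ codeT b k ≤ 768 := by
    rcases hk with rfl | rfl
    · exact ht.1.resolve_left (by rw [hpat]; simp)
    · exact ht.2.resolve_left (by rw [hpat]; simp)
  by_cases h384 : codeT b k ≤ 384
  · have hgk : goodOK b k = true := by rcases hk with rfl | rfl; exacts [hg.1, hg.2]
    unfold goodOK at hgk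
    rw [show (Nat.blt 0 (codeT b k) && Nat.ble (codeT b k) 384) = true by
      simp [hcode.1, h384]] at hgk
    simp only [Bool.and_eq_true, Bool.or_eq_true, Nat.beq_eq, Nat.blt_eq] at hgk
    set u := elWord (Nat.sub (codeT b k) 1)
    obtain ⟨⟨hu, hs⟩, hcls⟩ := hgk
    have hu8 := lettersOK_spec hu
    simp only [seedEq, List.all_eq_true, List.mem_range, Nat.beq_eq] at hs
    have hru : r = mw u := eq_of_T fun j hj => Fin.ext (by
      rw [hseed, smul_seed u hu8]; exact (hs j hj).symm)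
    rcases hcls with (⟨-, h1⟩ | ⟨⟨-, hv⟩, h2⟩) | ⟨⟨-, hv⟩, h3⟩
    · exfalso
      obtain ⟨j, hj, e⟩ := hsq
      simp only [List.all_eq_true, List.mem_range, Bool.not_eq_true'] at h1
      have h1' := h1 j hj
      rw [Bool.eq_false_iff] at h1'
      refine h1' ?_
      simp only [seedSame, List.all_eq_true, List.mem_range, Nat.beq_eq]
      intro i _
      rw [← smul_seed (u ++ u) (by simpa [List.forall_mem_append] using hu8), ← smul_seed (tw4 j) (tw4_spec j).2,
        mw_append, ← hru, e, (tw4_spec j).1]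
    · exact absurd (hru.trans ((eq_of_seedSame hu8 (tw4_spec _).2 h2).trans (tw4_spec _).1)) (hout _ hv)
    · refine ⟨_, hv, Nat.mod (Nat.shiftRight (elCls.half (Nat.sub (codeT b k) 1)) 2) 4, hru.trans ((eq_of_seedSame hu8 (cosWord_lt hv) h3).trans ?_)⟩
      rw [cosWord, mw_append, (tw4_spec _).1]
  · exfalso
    have hdk : badOK b k = true := by rcases hk with rfl | rfl; exacts [hd.1, hd.2]
    unfold badOK at hdk
    rw [show Nat.blt 384 (codeT b k) = true by simp; omega] at hdk
    simp only [Bool.and_eq_true, List.all_eq_true, List.mem_range, Nat.beq_eq] at hdk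
    refine refute (mw (elWord (badG.half (Nat.sub (codeT b k) 385))) * r) fun j hj => ?_
    rw [mul_smul, smulA_word (lettersOK_spec hdk.1), hseed]
    exact hdk.2 j hj

theorem trans_cos : ((transL.all fun m => Nat.blt m 7) &&
    treeOK evalA [wC, wT0, cosW.getD (transL.getD 0 0) []] tr0Orb tr0Pos 1755 0 1755 (fun _ => true) &&
    treeOK evalA [wC, wT0, cosW.getD (transL.getD 1 0) []] tr1Orb tr1Pos 1755 0 1755 (fun _ => true) &&
    treeOK evalA [wC, wT0, cosW.getD (transL.getD 2 0) []] tr2Orb tr2Pos 1755 0 1755 (fun _ => true) &&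
    treeOK evalA [wC, wT0, cosW.getD (transL.getD 3 0) []] tr3Orb tr3Pos 1755 0 1755 (fun _ => true)) = true := by
  decide +kernel

/-- The words generating a point stabiliser. -/
noncomputable def wsI (i : Nat) : List (List Nat) := [wC, wT0, cosW.getD ((intransL.getD i []).getD 0 0) []]

theorem intrans_facts : (((List.range 3).all fun i => (wsI i).all lettersOK &&
    ((wsI i).all fun w => Nat.beq (evalW piT w ((intransL.getD i []).getD 1 0)) ((intransL.getD i []).getD 1 0)) &&
    Nat.blt ((intransL.getD i []).getD 1 0) 2304) &&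
    chainImgOK (wsI 0 ++ (wsI 0).map iw) sx0Perm && chainImgOK (wsI 1 ++ (wsI 1).map iw) sx1Perm &&
    chainImgOK (wsI 2 ++ (wsI 2).map iw) sx2Perm) = true := by
  decide +kernel

theorem cos_cases : ∀ m < 7, (∃ i < 4, transL.getD i 0 = m) ∨ ∃ i < 3, (intransL.getD i []).getD 0 0 = m := by
  decide +kernel

/-- A subgroup of order 15600 containing `13 : 4` is the stabiliser of a point. -/
theorem exists_fixB_aux {Q : Subgroup M} (hQ : Nat.card Q = 15600) (hc : c0 ∈ Q) (ht : t0 ∈ Q)
    {m j : ℕ} (hm : m < 7) (hr : mw (cosW.getD m []) * t0 ^ j ∈ Q) :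
    ∃ z : Fin 2304, Q = MulAction.stabilizer M z := by
  have hcos : mw (cosW.getD m []) ∈ Q := by
    have := mul_mem hr (inv_mem (pow_mem ht j)); rwa [mul_inv_cancel_right] at this
  have hle : wordsGrp [wC, wT0, cosW.getD m []] ≤ Q := by
    rw [wordsGrp, Subgroup.closure_le]
    rintro f ⟨w, hw, rfl⟩
    simp only [List.mem_cons, List.not_mem_nil, or_false] at hw
    rcases hw with rfl | rfl | rfl
    exacts [hc, ht, hcos]
  rcases cos_cases m hm with ⟨i, hi, e⟩ | ⟨i, hi, e⟩
  · exfalso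
    have h := trans_cos
    simp only [Bool.and_eq_true] at h
    obtain ⟨⟨⟨⟨-, h0⟩, h1⟩, h2⟩, h3⟩ := h
    have hall : ∀ v : Fin 1755, ∃ f ∈ Q, f • (0 : Fin 1755) = v := by
      intro v
      subst e
      interval_cases i
      · obtain ⟨f, hf, e⟩ := tree_reach smulA_word' h0 (by norm_num) v rfl; exact ⟨f, hle hf, e⟩
      · obtain ⟨f, hf, e⟩ := tree_reach smulA_word' h1 (by norm_num) v rfl; exact ⟨f, hle hf, e⟩
      · obtain ⟨f, hf, e⟩ := tree_reach smulA_word' h2 (by norm_num) v rfl; exact ⟨f, hle hf, e⟩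
      · obtain ⟨f, hf, e⟩ := tree_reach smulA_word' h3 (by norm_num) v rfl; exact ⟨f, hle hf, e⟩
    have ho : MulAction.orbit Q (0 : Fin 1755) = Set.univ :=
      Set.eq_univ_of_forall fun v => let ⟨f, hf, e⟩ := hall v; ⟨⟨f, hf⟩, e⟩
    have hidx := Subgroup.card_mul_index (MulAction.stabilizer Q (0 : Fin 1755))
    rw [MulAction.index_stabilizer, ho, Set.ncard_univ, Nat.card_fin, hQ] at hidx
    omega
  · subst e
    have h := intrans_facts
    simp only [Bool.and_eq_true, List.all_eq_true, List.mem_range, Nat.blt_eq, Nat.beq_eq] at h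
    obtain ⟨⟨⟨hf, hi0⟩, hi1⟩, hi2⟩ := h
    obtain ⟨⟨h8, hfix⟩, hz⟩ := hf i hi
    have h8' : ∀ w ∈ wsI i, ∀ a ∈ w, a < 8 := fun w hw => lettersOK_spec (h8 w hw)
    have hW : wordsGrp (wsI i) ≤ MulAction.stabilizer M (⟨_, hz⟩ : Fin 2304) := by
      rw [wordsGrp, Subgroup.closure_le]
      rintro f ⟨w, hw, rfl⟩
      exact Fin.ext (by rw [smulB_word (h8' w hw)]; exact hfix w hw)
    have hcard : 15600 ≤ Nat.card (wordsGrp (wsI i)) := by
      interval_cases i
      · exact le_of_eq_of_le sx0_prod.symm (chain_card_words h8' (g := 6) rfl hi0 sx0_words sx0_levels)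
      · exact le_of_eq_of_le sx1_prod.symm (chain_card_words h8' (g := 6) rfl hi1 sx1_words sx1_levels)
      · exact le_of_eq_of_le sx2_prod.symm (chain_card_words h8' (g := 6) rfl hi2 sx2_words sx2_levels)
    have e1 : wordsGrp (wsI i) = Q := Subgroup.eq_of_le_of_card_ge hle (hQ ▸ hcard)
    refine ⟨⟨_, hz⟩, Subgroup.eq_of_le_of_card_ge (e1 ▸ hW) ?_⟩
    rw [card_stabB, hQ]
where
  smulA_word' : ∀ w : List ℕ, (∀ a ∈ w, a < 8) → ∀ x : Fin 1755,
      ((mw w • x : Fin 1755) : ℕ) = evalA w x := fun _ h x => smulA_word h x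

/-- Every subgroup of order 15600 is the stabiliser of a point of the class. -/
theorem exists_fixB {Q : Subgroup M} (hQ : Nat.card Q = 15600) :
    ∃ z : Fin 2304, Q = MulAction.stabilizer M z := by
  classical
  haveI : Fact (Nat.Prime 13) := ⟨by norm_num⟩
  haveI : Fact (Nat.Prime 2) := ⟨Nat.prime_two⟩
  -- conjugate so that the element of order thirteen is contained
  obtain ⟨K, hK⟩ := Sylow.exists_subgroup_card_pow_prime 13 (n := 1) (G := Q) (by rw [hQ]; norm_num)
  have hK13 : Nat.card (K.map Q.subtype) = 13 := by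
    rw [Subgroup.card_map_of_injective Q.subtype_injective, hK]; norm_num
  let S1 : Sylow 13 M := Sylow.ofCard (K.map Q.subtype) (by
    rw [hK13, card_M, fact_eq (k := 1) (by norm_num) (by norm_num) (by norm_num)]; norm_num)
  let S2 : Sylow 13 M := Sylow.ofCard (Subgroup.zpowers c0) (by
    rw [Nat.card_zpowers, orderOf_c0, card_M, fact_eq (k := 1) (by norm_num) (by norm_num) (by norm_num)]; norm_num)
  obtain ⟨g, hg⟩ := MulAction.exists_smul_eq M S1 S2
  have hcQ : c0 ∈ Q.map (MulAut.conj g).toMonoidHom := by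
    have h1 : (S2 : Subgroup M) = (S1 : Subgroup M).map (MulAut.conj g).toMonoidHom := by
      rw [← hg]; rfl
    have h2 : c0 ∈ (S2 : Subgroup M) := Subgroup.mem_zpowers c0
    rw [h1] at h2
    exact Subgroup.map_mono (Subgroup.map_subtype_le K) h2
  set Q' := Q.map (MulAut.conj g).toMonoidHom
  have hQ' : Nat.card Q' = 15600 := by rw [Subgroup.card_map_of_injective (MulAut.conj g).injective, hQ]
  have ht := t0_mem hQ' hcQ
  -- an element outside the cyclic group normalising it, with square inside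
  have hT : IsPGroup 2 (Subgroup.zpowers (⟨t0, ht⟩ : Q')) := IsPGroup.of_card (n := 2) (by
    rw [Nat.card_zpowers, ← orderOf_injective Q'.subtype Q'.subtype_injective]; exact orderOf_t0)
  obtain ⟨R, hR⟩ := hT.exists_le_sylow
  have hRc : Nat.card R = 16 := by
    rw [R.card_eq_multiplicity, hQ', fact_eq (k := 4) Nat.prime_two (by norm_num) (by norm_num)]; norm_num
  set T : Subgroup R := (Subgroup.zpowers (⟨t0, ht⟩ : Q')).subgroupOf R
  have hTc : Nat.card T = 4 := by
    rw [Nat.card_congr (Subgroup.subgroupOfEquivOfLe hR).toEquiv, Nat.card_zpowers,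
      ← orderOf_injective Q'.subtype Q'.subtype_injective]
    exact orderOf_t0
  have hne : T ≠ ⊤ := fun h => by
    rw [h, Nat.card_congr Subgroup.topEquiv.toEquiv, hRc] at hTc; omega
  haveI : Group.IsNilpotent R := R.isPGroup'.isNilpotent
  have hlt := Group.normalizerCondition_of_isNilpotent T (lt_top_iff_ne_top.2 hne)
  obtain ⟨r0, hr0, hr0T⟩ := SetLike.exists_of_lt hlt
  have hex : ∃ i, r0 ^ 2 ^ i ∈ T := ⟨4, by
    have : r0 ^ Nat.card R = 1 := pow_card_eq_one'
    rw [hRc] at this; norm_num; rw [this]; exact one_mem _⟩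
  set i0 := Nat.find hex
  have hi0 : r0 ^ 2 ^ i0 ∈ T := Nat.find_spec hex
  obtain ⟨i1, hi1⟩ : ∃ i1, i0 = i1 + 1 := Nat.exists_eq_succ_of_ne_zero fun h => hr0T (by
    rw [h, pow_zero, pow_one] at hi0; exact hi0)
  set r := r0 ^ 2 ^ i1
  have hrT : r ∉ T := Nat.find_min hex (show i1 < i0 by omega)
  have hrN : r ∈ Subgroup.normalizer (T : Set R) := pow_mem hr0 _
  have hr2 : r * r ∈ T := by rw [← pow_two, ← pow_mul, ← pow_succ, ← hi1]; exact hi0
  have hmem : ∀ x : R, x ∈ T ↔ ∃ j < 4, (((x : Q') : M)) = t0 ^ j := by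
    intro x
    rw [Subgroup.mem_subgroupOf]
    constructor
    · intro h
      obtain ⟨n, hn⟩ := (IsOfFinOrder.mem_powers_iff_mem_zpowers (isOfFinOrder_of_finite _)).2 h
      refine ⟨n % 4, Nat.mod_lt _ (by norm_num), ?_⟩
      rw [← orderOf_t0, pow_mod_orderOf]
      exact (congrArg Subtype.val hn).symm
    · rintro ⟨j, -, e⟩
      exact ⟨(j : ℤ), Subtype.ext (by simpa using e.symm)⟩
  set rM : M := ((r : Q') : M)
  set tR : R := ⟨⟨t0, ht⟩, hR (Subgroup.mem_zpowers _)⟩
  have htT : tR ∈ T := Subgroup.mem_zpowers (⟨t0, ht⟩ : Q')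
  obtain ⟨k, hk4, hk⟩ := (hmem _).1 ((Subgroup.mem_normalizer_iff.1 hrN tR).1 htT)
  have hkM : rM * t0 * rM⁻¹ = t0 ^ k := by simpa [rM, tR] using hk
  have hk13 : k = 1 ∨ k = 3 := by
    have h1 : orderOf (rM * t0 * rM⁻¹) = 4 := by
      rw [← MulAut.conj_apply]
      exact (orderOf_injective (MulAut.conj rM).toMonoidHom (MulAut.conj rM).injective t0).trans orderOf_t0
    rw [hkM, orderOf_pow, orderOf_t0] at h1
    interval_cases k <;> simp at h1 ⊢
  obtain ⟨m, hm, j, hj⟩ := coset_mem hk13 (by rw [← hkM, inv_mul_cancel_right])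
    (by obtain ⟨j, hj, e⟩ := (hmem _).1 hr2; exact ⟨j, hj, by simpa [rM] using e⟩)
    (fun j hj e => hrT ((hmem _).2 ⟨j, hj, e⟩))
  obtain ⟨z, hz⟩ := exists_fixB_aux hQ' hcQ ht hm (hj ▸ (r : Q').2 : mw (cosW.getD m []) * t0 ^ j ∈ Q')
  refine ⟨g⁻¹ • z, Subgroup.eq_of_le_of_card_ge (fun f hf => ?_) (by rw [card_stabB, hQ])⟩
  have h : MulAut.conj g f ∈ MulAction.stabilizer M z := hz ▸ Subgroup.mem_map_of_mem _ hf
  rw [MulAut.conj_apply, MulAction.mem_stabilizer_iff, mul_smul, mul_smul] at h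
  exact smul_left_cancel g (h.trans (smul_inv_smul g z).symm)

end CfsgLib.Spor.RuRank
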