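import Cfsg.Agent.Lib.Spor.RuRank.StabA
import Cfsg.Agent.Lib.Spor.RuRank.StabBT
import Cfsg.Agent.Lib.Spor.RuRank.Model

/-!
A rank three group of degree 4060 with subdegrees 1755 and 2304 whose point stabiliser is the
stabiliser of a short vector has the graph on `4060` points as its orbital graph.
-/

set_option autoImplicit false
set_option maxRecDepth 100000

namespace CfsgLib.Spor.RuRank

open CfsgLib.PresCert CfsgLib.RuGroup Cfsg.Spor

attribute [local irreducible] colW app el idT profT classBits vecT lane pkN sv vec profOf singleP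

section Orbit

variable {n : ℕ} [NeZero n] [MulAction M (Fin n)] [MulAction.IsPretransitive M (Fin n)]
  {Ω : Type*} {G : Type*} [Group G] [MulAction G Ω] {a : Ω}

/-- An orbit whose stabilisers are those of the model is the model. -/
theorem exists_orbit_map (φ : M ≃* MulAction.stabilizer G a) (b : Ω)
    (hcls : ∀ Q : Subgroup M, Nat.card Q = Nat.card (MulAction.stabilizer M (0 : Fin n)) →
      ∃ x : Fin n, Q = MulAction.stabilizer M x)
    (hb : (MulAction.orbit (MulAction.stabilizer G a) b).ncard = n) :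
    ∃ α : Fin n → Ω, Function.Injective α ∧ (∀ (f : M) x, α (f • x) = φ f • α x) ∧
      Set.range α = MulAction.orbit (MulAction.stabilizer G a) b := by
  set K : Subgroup M := (MulAction.stabilizer (MulAction.stabilizer G a) b).comap φ.toMonoidHom
  have hK : Nat.card K = Nat.card (MulAction.stabilizer M (0 : Fin n)) := by
    have h1 := Subgroup.card_mul_index K
    have h2 := Subgroup.card_mul_index (MulAction.stabilizer M (0 : Fin n))
    rw [Subgroup.index_comap_of_surjective _ φ.surjective, MulAction.index_stabilizer, hb] at h1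
    rw [MulAction.index_stabilizer_of_transitive, Nat.card_fin] at h2
    exact Nat.eq_of_mul_eq_mul_right (Nat.pos_of_ne_zero (NeZero.ne n)) (h1.trans h2.symm)
  obtain ⟨x0, hx0⟩ := hcls K hK
  have hstab : ∀ f : M, φ f • b = b ↔ f • x0 = x0 := fun f => by
    have e : f ∈ K ↔ f ∈ MulAction.stabilizer M x0 := by rw [hx0]
    exact e
  choose q hq using fun x : Fin n => MulAction.exists_smul_eq M x0 x
  refine ⟨fun x => φ (q x) • b, fun x y e => ?_, fun f x => ?_, Set.ext fun w => ⟨?_, ?_⟩⟩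
  · have h : φ ((q y)⁻¹ * q x) • b = b := by
      rw [map_mul, mul_smul, map_inv, inv_smul_eq_iff]; exact e
    rw [hstab, mul_smul, hq, inv_smul_eq_iff, hq] at h
    exact h
  · have h : φ ((q (f • x))⁻¹ * (f * q x)) • b = b := by
      rw [hstab, mul_smul, mul_smul, hq, inv_smul_eq_iff, hq]
    rw [map_mul, mul_smul, map_inv, inv_smul_eq_iff, map_mul, mul_smul] at h
    exact h.symm
  · rintro ⟨x, rfl⟩; exact ⟨φ (q x), rfl⟩
  · rintro ⟨h, rfl⟩
    refine ⟨φ.symm h • x0, ?_⟩
    have h1 : φ ((q (φ.symm h • x0))⁻¹ * φ.symm h) • b = b := by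
      rw [hstab, mul_smul, inv_smul_eq_iff, hq]
    rw [map_mul, mul_smul, map_inv, inv_smul_eq_iff, φ.apply_symm_apply] at h1
    exact h1.symm

end Orbit

theorem opts_cross : ∀ T2 T3 : Finset (Fin 2),
    1755 * (∑ c ∈ T2, ![1024, 1280] c) = 2304 * ∑ c ∈ T3, ![780, 975] c →
    (T2 = ∅ ∧ T3 = ∅) ∨ (T2 = {0} ∧ T3 = {0}) ∨ (T2 = {1} ∧ T3 = {1}) ∨
      (T2 = Finset.univ ∧ T3 = Finset.univ) := by
  decide +kernel

theorem opts_line : ∀ T1 : Finset (Fin 5), (0 : Fin 5) ∉ T1 →
    (1 + (∑ c ∈ T1, ![1, 10, 80, 640, 1024] c) + 1024 = 1755 → T1 = {1, 2, 3}) ∧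
      1 + (∑ c ∈ T1, ![1, 10, 80, 640, 1024] c) + 1280 ≠ 1755 ∧
      1 + (∑ c ∈ T1, ![1, 10, 80, 640, 1024] c) + (1024 + 1280) ≠ 1755 := by
  decide +kernel

theorem opts_class : ∀ T4 : Finset (Fin 6), (0 : Fin 6) ∉ T4 →
    (∑ c ∈ T4, ![1, 78, 300, 300, 650, 975] c) ≠ 1755 ∧
      (780 + (∑ c ∈ T4, ![1, 78, 300, 300, 650, 975] c) = 1755 → T4 = {5}) := by
  decide +kernel

theorem colB_zero : colB ((0 : Fin 2304) : ℕ) = 0 := by decide +kernel

variable {Ω : Type*} [Fintype Ω] [DecidableEq Ω]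

/-- The orbital relation. -/
def rel (G : Subgroup (Equiv.Perm Ω)) (a b : Ω) (x y : Ω) : Prop := ∃ g : G, g • a = x ∧ g • b = y

variable {G : Subgroup (Equiv.Perm Ω)} {a b : Ω}

omit [Fintype Ω] [DecidableEq Ω] in
theorem rel_smul (g : G) (x y : Ω) : rel G a b (g • x) (g • y) ↔ rel G a b x y := by
  constructor
  · rintro ⟨h, hx, hy⟩
    exact ⟨g⁻¹ * h, by rw [mul_smul, hx, inv_smul_smul], by rw [mul_smul, hy, inv_smul_smul]⟩
  · rintro ⟨h, hx, hy⟩
    exact ⟨g * h, by rw [mul_smul, hx], by rw [mul_smul, hy]⟩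

omit [Fintype Ω] [DecidableEq Ω] in
theorem rel_base (y : Ω) : rel G a b a y ↔ y ∈ MulAction.orbit (MulAction.stabilizer G a) b :=
  ⟨fun ⟨g, h1, h2⟩ => ⟨⟨g, h1⟩, h2⟩, fun ⟨g, h2⟩ => ⟨g.1, g.2, h2⟩⟩

/- The orbital graph is the model graph. -/
omit [DecidableEq Ω] in
theorem exists_sigma (hΩ : Fintype.card Ω = 4060) [MulAction.IsPretransitive G Ω]
    (φ : M ≃* MulAction.stabilizer G a) {c : Ω}
    (hb : (MulAction.orbit (MulAction.stabilizer G a) b).ncard = 1755)
    (hc : (MulAction.orbit (MulAction.stabilizer G a) c).ncard = 2304) :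
    ∃ σ : V ≃ Ω, σ none = a ∧ (∀ f v, σ (smulV f v) = φ f • σ v) ∧
      ∀ (g : G) u v, Delta (σ.symm (g • σ u)) (σ.symm (g • σ v)) = Delta u v := by
  classical
  let H : Subgroup G := MulAction.stabilizer G a
  obtain ⟨α, hαi, hαe, hαr⟩ := exists_orbit_map (n := 1755) φ b
    (fun Q hQ => exists_fixA (hQ.trans (card_stabA 0))) hb
  obtain ⟨β, hβi, hβe, hβr⟩ := exists_orbit_map (n := 2304) φ c
    (fun Q hQ => exists_fixB (hQ.trans (card_stabB 0))) hc
  have hoa : MulAction.orbit H a = {a} := by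
    ext w
    exact ⟨fun ⟨g, hg⟩ => hg.symm.trans g.2, fun h => h ▸ MulAction.mem_orbit_self _⟩
  have hαo : ∀ x, MulAction.orbit H (α x) = MulAction.orbit H b := fun x =>
    MulAction.orbit_eq_iff.2 (hαr ▸ Set.mem_range_self x)
  have hβo : ∀ z, MulAction.orbit H (β z) = MulAction.orbit H c := fun z =>
    MulAction.orbit_eq_iff.2 (hβr ▸ Set.mem_range_self z)
  have hne1 : ∀ x, α x ≠ a := fun x e => by
    have h := hαo x; rw [e, hoa] at h; rw [← h, Set.ncard_singleton] at hb; omega
  have hne2 : ∀ z, β z ≠ a := fun z e => by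
    have h := hβo z; rw [e, hoa] at h; rw [← h, Set.ncard_singleton] at hc; omega
  have hne3 : ∀ x z, α x ≠ β z := fun x z e => by
    have h := hαo x; rw [e, hβo z] at h; rw [h, hb] at hc; omega
  let σ0 : V → Ω := fun v => match v with
    | none => a
    | some (Sum.inl x) => α x
    | some (Sum.inr z) => β z
  have hσi : Function.Injective σ0 := by
    rintro (_ | x | z) (_ | x' | z') e
    · rfl
    · exact absurd e.symm (hne1 x')
    · exact absurd e.symm (hne2 z')
    · exact absurd e (hne1 x)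
    · rw [hαi e]
    · exact absurd e (hne3 x z')
    · exact absurd e (hne2 z)
    · exact absurd e.symm (hne3 x' z)
    · rw [hβi e]
  have hσb : Function.Bijective σ0 :=
    (Fintype.bijective_iff_injective_and_card σ0).2 ⟨hσi, by rw [card_V, hΩ]⟩
  set σ : V ≃ Ω := Equiv.ofBijective σ0 hσb
  have hσn : σ none = a := rfl
  have hσe : ∀ f v, σ (smulV f v) = φ f • σ v := by
    rintro f (_ | x | z)
    · exact ((φ f).2).symm
    · exact hαe f x
    · exact hβe f z
  have hφrel : ∀ (f : M) x y, rel G a b (φ f • x) (φ f • y) ↔ rel G a b x y := fun f x y =>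
    rel_smul (φ f : G) x y
  -- out-degrees
  have hirr : ∀ x, ¬ rel G a b x x := fun x ⟨g, h1, h2⟩ => by
    have e := smul_left_cancel g (h1.trans h2.symm)
    rw [← e, hoa, Set.ncard_singleton] at hb; omega
  have hout : ∀ x, {y | rel G a b x y}.ncard = 1755 := by
    intro x
    obtain ⟨g, rfl⟩ := MulAction.exists_smul_eq G a x
    have e : {y | rel G a b (g • a) y} = (g • ·) '' MulAction.orbit H b := by
      ext y
      rw [Set.mem_setOf_eq, ← smul_inv_smul g y, rel_smul, rel_base]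
      exact ⟨fun h => ⟨_, h, rfl⟩, fun ⟨z, hz, he⟩ => by
        rw [show g⁻¹ • y = z by rw [← (MulAction.injective g) he]]; exact hz⟩
    rw [e, Set.ncard_image_of_injective _ (MulAction.injective g), hb]
  -- the relation is symmetric
  obtain ⟨g0, hg0⟩ := MulAction.exists_smul_eq G b a
  have hin : ∀ y, rel G a b y a ↔ y ∈ MulAction.orbit H (g0 • a) := by
    intro y
    constructor
    · rintro ⟨g, h1, h2⟩
      refine ⟨⟨g * g0⁻¹, ?_⟩, ?_⟩
      · rw [MulAction.mem_stabilizer_iff, mul_smul, inv_smul_eq_iff.2 hg0.symm, h2]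
      · show (g * g0⁻¹) • (g0 • a) = y
        rw [mul_smul, inv_smul_smul, h1]
    · rintro ⟨h, rfl⟩
      exact ⟨(h : G) * g0, mul_smul _ _ _, by rw [mul_smul, hg0]; exact h.2⟩
  have hincard : ∀ x, {y | rel G a b y x}.ncard = (MulAction.orbit H (g0 • a)).ncard := by
    intro x
    obtain ⟨g, rfl⟩ := MulAction.exists_smul_eq G a x
    have e : {y | rel G a b y (g • a)} = (g • ·) '' MulAction.orbit H (g0 • a) := by
      ext y
      rw [Set.mem_setOf_eq, ← smul_inv_smul g y, rel_smul, hin]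
      exact ⟨fun h => ⟨_, h, rfl⟩, fun ⟨z, hz, he⟩ => by
        rw [show g⁻¹ • y = z by rw [← (MulAction.injective g) he]]; exact hz⟩
    rw [e, Set.ncard_image_of_injective _ (MulAction.injective g)]
  have hin1755 : (MulAction.orbit H (g0 • a)).ncard = 1755 := by
    have h := Finset.card_mul_eq_card_mul (fun x y => rel G a b x y) (s := (Finset.univ : Finset Ω))
      (t := (Finset.univ : Finset Ω)) (m := 1755) (n := (MulAction.orbit H (g0 • a)).ncard)
      (fun x _ => by rw [← hout x, ← Set.ncard_coe_finset]; congr 1; ext y; simp [Finset.bipartiteAbove])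
      (fun x _ => by rw [← hincard x, ← Set.ncard_coe_finset]; congr 1; ext y; simp [Finset.bipartiteBelow])
    rw [Finset.card_univ, hΩ] at h
    exact (Nat.eq_of_mul_eq_mul_left (by norm_num) h).symm
  have hinA : MulAction.orbit H (g0 • a) = MulAction.orbit H b := by
    obtain ⟨v, hv⟩ := σ.surjective (g0 • a)
    rcases v with _ | x | z
    · rw [← hv, hσn, hoa, Set.ncard_singleton] at hin1755; omega
    · rw [← hv]; exact hαo x
    · rw [← hv, show σ (some (Sum.inr z)) = β z from rfl, hβo z, hc] at hin1755; omega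
  have hsymm : ∀ x y, rel G a b x y → rel G a b y x := by
    rintro x y ⟨g, rfl, rfl⟩
    rw [rel_smul, hin, hinA]
    exact MulAction.mem_orbit_self _
  -- the base point
  have hrA : ∀ x, rel G a b a (α x) := fun x => (rel_base _).2 (hαr ▸ Set.mem_range_self x)
  have hrB : ∀ z, ¬ rel G a b a (β z) := fun z h => by
    obtain ⟨x, hx⟩ := hαr.symm ▸ (rel_base _).1 h
    exact hne3 x z hx
  -- the neighbours of the first line and of the first point of the class
  set S1 : Set (Fin 1755) := {v | rel G a b (α 0) (α v)}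
  set S2 : Set (Fin 2304) := {z | rel G a b (α 0) (β z)}
  set S3 : Set (Fin 1755) := {v | rel G a b (β 0) (α v)}
  set S4 : Set (Fin 2304) := {z | rel G a b (β 0) (β z)}
  have hP : ∀ f ∈ P0, φ f • α 0 = α 0 := fun f hf => by rw [← hαe, MulAction.mem_stabilizer_iff.1 hf]
  have hX : ∀ f ∈ X0, φ f • β 0 = β 0 := fun f hf => by rw [← hβe, MulAction.mem_stabilizer_iff.1 hf]
  obtain ⟨T1, hT1, n1⟩ := exists_union P0 col0 col0_lt (fun c x y hx hy => by
      obtain ⟨f, hf, e⟩ := reach_PA x; obtain ⟨g, hg, e'⟩ := reach_PA y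
      have : repPA ⟨col0 x, col0_lt x⟩ = repPA ⟨col0 y, col0_lt y⟩ := by simp only [hx, hy]
      exact ⟨g * f⁻¹, mul_mem hg (inv_mem hf), by rw [mul_smul, inv_smul_eq_iff.2 e.symm, this, e']⟩)
    S1 (fun f hf x hx => by show rel G a b (α 0) (α (f • x)); rw [hαe, ← hP f hf, hφrel]; exact hx)
    ![1, 10, 80, 640, 1024] sizes_PA (by norm_num)
  obtain ⟨T2, hT2, n2⟩ := exists_union P0 clsPB (k := 2) (fun z => by unfold clsPB; cases sbit z <;> simp)
    reach_PB S2 (fun f hf x hx => by show rel G a b (α 0) (β (f • x)); rw [hβe, ← hP f hf, hφrel]; exact hx)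
    ![1024, 1280] sizes_PB (by norm_num)
  obtain ⟨T3, hT3, n3⟩ := exists_union X0 clsXA (k := 2) (fun z => by unfold clsXA; cases abit z <;> simp)
    reach_XA S3 (fun f hf x hx => by show rel G a b (β 0) (α (f • x)); rw [hαe, ← hX f hf, hφrel]; exact hx)
    ![780, 975] sizes_XA (by norm_num)
  obtain ⟨T4, hT4, n4⟩ := exists_union X0 colB colB_lt'
    reach_XB S4 (fun f hf x hx => by show rel G a b (β 0) (β (f • x)); rw [hβe, ← hX f hf, hφrel]; exact hx)
    ![1, 78, 300, 300, 650, 975] sizes_XB (by norm_num)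
  have h01 : (0 : Fin 5) ∉ T1 := fun h => hirr (α 0) ((hT1 0).2 (by
    rwa [show (⟨col0 ((0 : Fin 1755) : ℕ), col0_lt 0⟩ : Fin 5) = 0 from Fin.ext ((col0_eq_zero 0).2 rfl)]))
  have h04 : (0 : Fin 6) ∉ T4 := fun h => hirr (β 0) ((hT4 0).2 (by
    rwa [show (⟨colB ((0 : Fin 2304) : ℕ), colB_lt' 0⟩ : Fin 6) = 0 from Fin.ext colB_zero]))
  have hsplit : ∀ x : Ω, {y | rel G a b x y}.ncard =
      ({v : V | v = none ∧ rel G a b x a}).ncard + ({v : Fin 1755 | rel G a b x (α v)}).ncard +
        ({z : Fin 2304 | rel G a b x (β z)}).ncard := by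
    intro x
    have e : {y | rel G a b x y} = σ '' ({v : V | v = none ∧ rel G a b x a} ∪
        (fun v => (some (Sum.inl v) : V)) '' {v : Fin 1755 | rel G a b x (α v)} ∪
        (fun z => (some (Sum.inr z) : V)) '' {z : Fin 2304 | rel G a b x (β z)}) := by
      ext y
      obtain ⟨v, rfl⟩ := σ.surjective y
      rw [σ.injective.mem_set_image]
      rcases v with _ | v | z <;> simp [σ, σ0]
    rw [e, Set.ncard_image_of_injective _ σ.injective,
      Set.ncard_union_eq ?_ (Set.toFinite _) (Set.toFinite _),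
      Set.ncard_union_eq ?_ (Set.toFinite _) (Set.toFinite _),
      Set.ncard_image_of_injective _ (fun _ _ e => Sum.inl_injective (Option.some_injective _ e)),
      Set.ncard_image_of_injective _ (fun _ _ e => Sum.inr_injective (Option.some_injective _ e))]
    · rw [Set.disjoint_left]
      rintro _ ⟨rfl, -⟩ ⟨_, -, e⟩
      exact absurd e (by simp)
    · rw [Set.disjoint_left]
      rintro _ (⟨rfl, -⟩ | ⟨_, -, rfl⟩) ⟨_, -, e⟩ <;> exact absurd e (by simp)
  have d1 := hsplit (α 0)
  rw [hout, show ({v : V | v = none ∧ rel G a b (α 0) a}) = {none} from Set.ext fun v => by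
    simp [hsymm _ _ (hrA 0)], Set.ncard_singleton] at d1
  have d2 := hsplit (β 0)
  rw [hout, show ({v : V | v = none ∧ rel G a b (β 0) a}) = ∅ from Set.ext fun v => by
    simp only [Set.mem_setOf_eq, Set.mem_empty_iff_false, iff_false, not_and]
    exact fun _ h => hrB 0 (hsymm _ _ h), Set.ncard_empty, zero_add] at d2
  change 1755 = 1 + S1.ncard + S2.ncard at d1
  change 1755 = S3.ncard + S4.ncard at d2
  -- transport to any line and any point of the class
  have hAA : ∀ u v, rel G a b (α u) (α v) ↔ qA u • v ∈ S1 := fun u v => by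
    show _ ↔ rel G a b (α 0) (α (qA u • v))
    rw [← qA_smul u, hαe, hαe, hφrel]
  have hAB : ∀ u z, rel G a b (α u) (β z) ↔ qA u • z ∈ S2 := fun u z => by
    show _ ↔ rel G a b (α 0) (β (qA u • z))
    rw [← qA_smul u, hαe, hβe, hφrel]
  have hBA : ∀ z u, rel G a b (β z) (α u) ↔ qB z • u ∈ S3 := fun z u => by
    show _ ↔ rel G a b (β 0) (α (qB z • u))
    rw [← qB_smul z, hβe, hαe, hφrel]
  have hBB : ∀ z w, rel G a b (β z) (β w) ↔ qB z • w ∈ S4 := fun z w => by
    show _ ↔ rel G a b (β 0) (β (qB z • w))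
    rw [← qB_smul z, hβe, hβe, hφrel]
  have hcross : 1755 * S2.ncard = 2304 * S3.ncard := by
    have h := Finset.card_mul_eq_card_mul (fun u z => rel G a b (α u) (β z))
      (s := (Finset.univ : Finset (Fin 1755))) (t := (Finset.univ : Finset (Fin 2304)))
      (m := S2.ncard) (n := S3.ncard)
      (fun u _ => by
        rw [← Set.ncard_coe_finset, ← Set.ncard_image_of_injective S2 (MulAction.injective (qA u)⁻¹)]
        congr 1; ext z
        simp only [Finset.bipartiteAbove, Finset.coe_filter, Finset.mem_univ, true_and, Set.mem_setOf_eq, hAB]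
        exact ⟨fun h => ⟨_, h, inv_smul_smul _ _⟩, fun ⟨w, hw, e⟩ => by rw [← e, smul_inv_smul]; exact hw⟩)
      (fun z _ => by
        rw [← Set.ncard_coe_finset, ← Set.ncard_image_of_injective S3 (MulAction.injective (qB z)⁻¹)]
        congr 1; ext u
        simp only [Finset.bipartiteBelow, Finset.coe_filter, Finset.mem_univ, true_and, Set.mem_setOf_eq]
        exact ⟨fun h => ⟨_, (hBA z u).1 (hsymm _ _ h), inv_smul_smul _ _⟩,
          fun ⟨w, hw, e⟩ => hsymm _ _ ((hBA z u).2 (by rw [← e, smul_inv_smul]; exact hw))⟩)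
    rw [Finset.card_univ, Finset.card_univ, Fintype.card_fin, Fintype.card_fin] at h
    exact h
  rw [n1, n2] at d1
  rw [n3, n4] at d2
  rw [n2, n3] at hcross
  obtain ⟨e2, e3, e1, e4⟩ : T2 = {0} ∧ T3 = {0} ∧ T1 = {1, 2, 3} ∧ T4 = {5} := by
    obtain ⟨o1, o2, o3⟩ := opts_line T1 h01
    obtain ⟨o4, o5⟩ := opts_class T4 h04
    rcases opts_cross T2 T3 hcross with ⟨rfl, rfl⟩ | ⟨rfl, rfl⟩ | ⟨rfl, rfl⟩ | ⟨rfl, rfl⟩
    · simp only [Finset.sum_empty, zero_add] at d2
      exact absurd d2.symm o4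
    · simp only [Finset.sum_singleton] at d1 d2
      exact ⟨rfl, rfl, o1 d1.symm, o5 d2.symm⟩
    · simp only [Finset.sum_singleton] at d1
      exact absurd d1.symm o2
    · rw [show (∑ c : Fin 2, ![1024, 1280] c) = 1024 + 1280 by decide] at d1
      exact absurd d1.symm o3
  subst e1 e2 e3 e4
  have r1 : ∀ v : Fin 1755, v ∈ S1 ↔ adjc (col0 v) = true := fun v => by
    rw [hT1]
    have key : ∀ c : Fin 5, c ∈ ({1, 2, 3} : Finset (Fin 5)) ↔ adjc (c : ℕ) = true := by decide +kernel
    exact key ⟨col0 v, col0_lt v⟩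
  have r2 : ∀ z : Fin 2304, z ∈ S2 ↔ sbit z = true := fun z => by
    rw [hT2]; simp only [clsPB, Finset.mem_singleton, Fin.ext_iff]
    cases sbit z <;> simp
  have r4 : ∀ z : Fin 2304, z ∈ S4 ↔ Nat.beq (colB z) 5 = true := fun z => by
    rw [hT4, Finset.mem_singleton, Fin.ext_iff, Nat.beq_eq]; rfl
  -- conclusion
  have hkey : ∀ u v, rel G a b (σ u) (σ v) ↔ Delta u v = true := by
    rintro (_ | u | z) (_ | v | w)
    · exact iff_of_false (hirr a) (by simp [Delta])
    · exact iff_of_true (hrA v) rfl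
    · exact iff_of_false (hrB w) (by simp [Delta])
    · exact iff_of_true (hsymm _ _ (hrA u)) rfl
    · show rel G a b (α u) (α v) ↔ adjc (colM u v) = true
      rw [hAA, r1, colM_eq]
    · show rel G a b (α u) (β w) ↔ adjAB u w = true
      rw [hAB, r2, qA, smulB_word (bA_lt u)]; rfl
    · exact iff_of_false (fun h => hrB z (hsymm _ _ h)) (by simp [Delta])
    · show rel G a b (β z) (α v) ↔ adjAB v z = true
      have : rel G a b (β z) (α v) ↔ rel G a b (α v) (β z) := ⟨hsymm _ _, hsymm _ _⟩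
      rw [this, hAB, r2, qA, smulB_word (bA_lt v)]; rfl
    · show rel G a b (β z) (β w) ↔ adjBB z w = true
      rw [hBB, r4, qB, smulB_word (bB_lt z)]; rfl
  refine ⟨σ, hσn, hσe, fun g u v => ?_⟩
  rw [Bool.eq_iff_iff, ← hkey, ← hkey, σ.apply_symm_apply, σ.apply_symm_apply, rel_smul]

end CfsgLib.Spor.RuRank
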