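import Cfsg.Agent.Lib.Spor.RuRank.Classes

/-!
Every subgroup of order `20480` of the stabiliser fixes a line.
-/

set_option autoImplicit false
set_option maxRecDepth 100000

namespace CfsgLib.Spor.RuRank

open CfsgLib.PresCert CfsgLib.RuGroup Cfsg.Spor
open scoped Pointwise

attribute [local irreducible] colW app el idT profT classBits vecT lane pkN sv vec profOf singleP

theorem ten_facts : ten.length = 10 ∧ ten.Nodup ∧ (∀ v ∈ ten, v < 1755 ∧ col0 v = 1) ∧
    (List.range 1755).filter (fun v => Nat.beq (col0 v) 1) = ten ∧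
    ∀ w ∈ tenW, (∀ a ∈ w, a < 8) ∧ evalA w 0 = 0 ∧ ∀ v ∈ ten, evalA w v ∈ ten := by
  decide +kernel

/-- A line of the suborbit of size ten. -/
def tenPt (i : Fin 10) : Fin 1755 := Fin.ofNat 1755 (ten.getD i 0)

/-- A word on the suborbit of size ten. -/
noncomputable def tenP (j : Fin tenW.length) (i : Fin 10) : Fin 10 :=
  Fin.ofNat 10 (ten.idxOf (evalA (tenW.getD j []) (ten.getD i 0)))

theorem ten_orbits : ∀ T : Finset (Fin 10), T.card = 4 →
    6 ≤ (Finset.univ.image fun j : Fin tenW.length => T.image (tenP j)).card := by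
  decide +kernel

theorem tenPt_val (i : Fin 10) : (tenPt i : ℕ) = ten.getD i 0 := by
  have hi : (i : ℕ) < ten.length := by rw [ten_facts.1]; exact i.2
  have : ten.getD i 0 ∈ ten := by
    rw [List.getD_eq_getElem?_getD, List.getElem?_eq_getElem hi]; exact List.getElem_mem hi
  exact Nat.mod_eq_of_lt (ten_facts.2.2.1 _ this).1

theorem tenPt_inj : Function.Injective tenPt := fun i j h => by
  have h' : ten.getD i 0 = ten.getD j 0 := by rw [← tenPt_val, ← tenPt_val, h]
  have hi : (i : ℕ) < ten.length := by rw [ten_facts.1]; exact i.2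
  have hj : (j : ℕ) < ten.length := by rw [ten_facts.1]; exact j.2
  simp only [List.getD_eq_getElem?_getD, List.getElem?_eq_getElem hi, List.getElem?_eq_getElem hj,
    Option.getD_some] at h'
  exact Fin.ext ((ten_facts.2.1.getElem_inj_iff).1 h')

theorem tenPt_range (v : Fin 1755) (hv : col0 v = 1) : ∃ i, tenPt i = v := by
  have hm : (v : ℕ) ∈ ten := by
    rw [← ten_facts.2.2.2.1, List.mem_filter]
    exact ⟨List.mem_range.2 v.2, by simp [hv]⟩
  obtain ⟨i, hi, e⟩ := List.mem_iff_getElem.1 hm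
  refine ⟨⟨i, by rw [← ten_facts.1]; exact hi⟩, Fin.ext ?_⟩
  rw [tenPt_val, List.getD_eq_getElem?_getD, List.getElem?_eq_getElem hi]; exact e

theorem tenP_spec (j : Fin tenW.length) (i : Fin 10) :
    mw (tenW.getD j []) • tenPt i = tenPt (tenP j i) := by
  have hj : tenW.getD j [] ∈ tenW := by
    rw [List.getD_eq_getElem?_getD, List.getElem?_eq_getElem j.2]; exact List.getElem_mem j.2
  obtain ⟨h8, -, hin⟩ := ten_facts.2.2.2.2 _ hj
  have hi : (i : ℕ) < ten.length := by rw [ten_facts.1]; exact i.2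
  have hm : ten.getD i 0 ∈ ten := by
    rw [List.getD_eq_getElem?_getD, List.getElem?_eq_getElem hi]; exact List.getElem_mem hi
  have h2 := hin _ hm
  have hk := List.idxOf_lt_length_of_mem h2
  refine Fin.ext ?_
  rw [smulA_word h8, tenPt_val, tenPt_val, tenP, Fin.val_ofNat, Nat.mod_eq_of_lt (show _ < 10 from lt_of_lt_of_eq hk ten_facts.1),
    List.getD_eq_getElem?_getD (l := ten) (i := List.idxOf _ ten), List.getElem?_eq_getElem hk,
    List.getElem_idxOf]
  rfl

theorem tenW_mem (j : Fin tenW.length) : mw (tenW.getD j []) ∈ P0 := by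
  have hj : tenW.getD j [] ∈ tenW := by
    rw [List.getD_eq_getElem?_getD, List.getElem?_eq_getElem j.2]; exact List.getElem_mem j.2
  obtain ⟨h8, h0, -⟩ := ten_facts.2.2.2.2 _ hj
  exact Fin.ext (by rw [smulA_word h8]; exact h0)

theorem orbit_P0 (v : Fin 1755) :
    MulAction.orbit P0 v = {x : Fin 1755 | col0 x = col0 v} := by
  ext x
  constructor
  · rintro ⟨f, rfl⟩
    exact col0_smul f.2 v
  · intro (hx : col0 x = col0 v)
    obtain ⟨f, hf, e⟩ := reach_PA x; obtain ⟨g, hg, e'⟩ := reach_PA v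
    have hr : repPA ⟨col0 x, col0_lt x⟩ = repPA ⟨col0 v, col0_lt v⟩ := by simp only [hx]
    refine ⟨⟨f * g⁻¹, mul_mem hf (inv_mem hg)⟩, ?_⟩
    show (f * g⁻¹) • v = x
    rw [mul_smul, inv_smul_eq_iff.2 e'.symm, ← hr, e]

theorem ncard_orbit_P0 (v : Fin 1755) :
    (MulAction.orbit P0 v).ncard = ![1, 10, 80, 640, 1024] ⟨col0 v, col0_lt v⟩ := by
  rw [orbit_P0, ← sizes_PA ⟨col0 v, col0_lt v⟩, ← card_eq_cntB (by norm_num), ← Set.ncard_coe_finset]
  congr 1
  ext x; simp

/-- A subgroup of order 20480 containing a group of order 4096 fixing the first line fixes it. -/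
theorem le_P0 {Q S : Subgroup M} (hQ : Nat.card Q = 20480) (hSQ : S ≤ Q) (hS : Nat.card S = 4096)
    (hS0 : S ≤ P0) : Q ≤ P0 := by
  classical
  set O : Set (Fin 1755) := MulAction.orbit Q (0 : Fin 1755)
  have hst : S.subgroupOf Q ≤ MulAction.stabilizer Q (0 : Fin 1755) := fun x hx => hS0 hx
  have hc1 : 4096 ∣ Nat.card (MulAction.stabilizer Q (0 : Fin 1755)) := by
    rw [← hS, ← Nat.card_congr (Subgroup.subgroupOfEquivOfLe hSQ).toEquiv]
    exact Subgroup.card_dvd_of_le hst
  have hprod : O.ncard * Nat.card (MulAction.stabilizer Q (0 : Fin 1755)) = 20480 := by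
    rw [← MulAction.index_stabilizer, mul_comm, Subgroup.card_mul_index, hQ]
  obtain ⟨j, hj⟩ := hc1
  have hOj : O.ncard * j = 5 := by rw [hj] at hprod; nlinarith
  have hO : O.ncard = 1 ∨ O.ncard = 5 := (Nat.dvd_prime (by norm_num)).1 ⟨j, hOj.symm⟩
  rcases hO with hO | hO
  · intro f hf
    obtain ⟨a, ha⟩ := Set.ncard_eq_one.1 hO
    have h0 : (0 : Fin 1755) ∈ O := MulAction.mem_orbit_self _
    have h1 : f • (0 : Fin 1755) ∈ O := ⟨⟨f, hf⟩, rfl⟩
    rw [ha, Set.mem_singleton_iff] at h0 h1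
    exact h1.trans h0.symm
  exfalso
  set T : Set (Fin 1755) := O \ {0}
  have hT : T.ncard = 4 := by
    rw [Set.ncard_diff_singleton_of_mem (MulAction.mem_orbit_self _), hO]
  have hinv : ∀ s ∈ S, ∀ v ∈ T, s • v ∈ T := by
    rintro s hs v ⟨⟨q, rfl⟩, hne⟩
    refine ⟨⟨⟨s, hSQ hs⟩ * q, mul_smul _ _ _⟩, fun h => hne ?_⟩
    rw [Set.mem_singleton_iff] at h ⊢
    exact smul_left_cancel s (h.trans (hS0 hs).symm)
  have hcol : ∀ v ∈ T, col0 v = 1 := by
    intro v hv
    have h1 := Subgroup.card_mul_index (MulAction.stabilizer S v)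
    rw [MulAction.index_stabilizer, hS] at h1
    have h2 : (MulAction.orbit S v).ncard ≤ 4 := hT ▸ Set.ncard_le_ncard
      (by rintro _ ⟨s, rfl⟩; exact hinv s s.2 v hv) (Set.toFinite _)
    have h3 := Subgroup.card_mul_index (MulAction.stabilizer P0 v)
    rw [MulAction.index_stabilizer, ncard_orbit_P0, card_stabA] at h3
    have h4 : Nat.card (MulAction.stabilizer S v) ≤ Nat.card (MulAction.stabilizer P0 v) := by
      refine Nat.card_le_card_of_injective (fun s => ⟨⟨(s.1 : M), hS0 s.1.2⟩, s.2⟩) fun a b h => ?_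
      exact Subtype.ext (Subtype.ext (congrArg (fun z : MulAction.stabilizer P0 v => ((z : P0) : M)) h))
    have hne : col0 v ≠ 0 := fun e => hv.2 ((col0_eq_zero v).1 e)
    have := col0_lt v
    generalize Nat.card (MulAction.stabilizer S v) = p at h1 h4
    generalize Nat.card (MulAction.stabilizer P0 v) = q at h3 h4
    generalize (MulAction.orbit S v).ncard = o at h1 h2
    have key : ∀ c : Fin 5, ![1, 10, 80, 640, 1024] c ≤ 20 → (c : ℕ) = 0 ∨ (c : ℕ) = 1 := by decide
    refine (key ⟨col0 v, col0_lt v⟩ ?_).resolve_left hne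
    generalize ![1, 10, 80, 640, 1024] (⟨col0 v, col0_lt v⟩ : Fin 5) = k at h3 ⊢
    by_contra hk20
    have h20 : 21 ≤ k := by omega
    have : q * 21 ≤ q * k := Nat.mul_le_mul_left q h20
    have : p * o ≤ q * 4 := Nat.mul_le_mul h4 h2
    omega
  set T0 : Finset (Fin 10) := Finset.univ.filter fun i => tenPt i ∈ T
  have himg : tenPt '' (T0 : Set (Fin 10)) = T := by
    ext v
    constructor
    · rintro ⟨i, hi, rfl⟩; simpa [T0] using hi
    · intro hv
      obtain ⟨i, rfl⟩ := tenPt_range v (hcol v hv)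
      exact ⟨i, by simpa [T0] using hv, rfl⟩
  have hT0 : T0.card = 4 := by
    rw [← Set.ncard_coe_finset, ← Set.ncard_image_of_injective _ tenPt_inj, himg, hT]
  have h6 := ten_orbits T0 hT0
  set 𝒪 : Set (Set (Fin 1755)) := MulAction.orbit P0 T
  have hle : S.subgroupOf P0 ≤ MulAction.stabilizer P0 T := by
    intro s hs
    refine Set.eq_of_subset_of_ncard_le ?_ ?_ (Set.toFinite _)
    · rintro _ ⟨v, hv, rfl⟩
      exact hinv _ hs v hv
    · rw [Set.ncard_smul_set]
  have hd : 4096 ∣ Nat.card (MulAction.stabilizer P0 T) := by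
    rw [← hS, ← Nat.card_congr (Subgroup.subgroupOfEquivOfLe hS0).toEquiv]
    exact Subgroup.card_dvd_of_le hle
  have hcard := Subgroup.card_mul_index (MulAction.stabilizer P0 T)
  rw [MulAction.index_stabilizer, card_stabA] at hcard
  have h5 : 𝒪.ncard ≤ 5 := by
    obtain ⟨m, hm⟩ := hd
    rw [hm] at hcard
    show (MulAction.orbit P0 T).ncard ≤ 5
    rcases Nat.eq_zero_or_pos m with h | h
    · subst h; simp at hcard
    · nlinarith
  have hsub : Set.image (fun U : Finset (Fin 10) => tenPt '' (U : Set (Fin 10)))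
      ↑(Finset.univ.image fun j : Fin tenW.length => T0.image (tenP j)) ⊆ 𝒪 := by
    rintro _ ⟨U, hU, rfl⟩
    obtain ⟨j, -, rfl⟩ := Finset.mem_image.1 (Finset.mem_coe.1 hU)
    refine ⟨⟨_, tenW_mem j⟩, ?_⟩
    show mw (tenW.getD j []) • T = _
    rw [← himg, ← Set.image_smul, Set.image_image]
    refine Eq.trans ?_ (Eq.symm (show tenPt '' ((T0.image (tenP j) : Finset (Fin 10)) : Set (Fin 10)) =
      (fun i => tenPt (tenP j i)) '' (T0 : Set (Fin 10)) by rw [Finset.coe_image, Set.image_image]))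
    exact Set.image_congr fun i _ => tenP_spec j i
  have := Set.ncard_le_ncard hsub (Set.toFinite _)
  rw [Set.ncard_image_of_injective _ (fun U V h => Finset.coe_injective
    (Set.image_injective.2 tenPt_inj h)), Set.ncard_coe_finset] at this
  omega

/-- Every subgroup of order 20480 is the stabiliser of a line. -/
theorem exists_fixA {Q : Subgroup M} (hQ : Nat.card Q = 20480) :
    ∃ x : Fin 1755, Q = MulAction.stabilizer M x := by
  haveI : Fact (Nat.Prime 2) := ⟨Nat.prime_two⟩
  obtain ⟨K, hK⟩ := Sylow.exists_subgroup_card_pow_prime 2 (n := 12) (G := Q) (by rw [hQ]; norm_num)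
  obtain ⟨x, hx⟩ := (IsPGroup.of_card (G := K) hK).nonempty_fixed_point_of_prime_not_dvd_card (Fin 1755)
    (by rw [Nat.card_fin]; norm_num)
  refine ⟨x, Subgroup.eq_of_le_of_card_ge (fun f hf => ?_) (by rw [card_stabA, hQ])⟩
  set c := MulAut.conj (qA x)
  have hKM : Nat.card (K.map Q.subtype) = 4096 := by
    rw [Subgroup.card_map_of_injective Q.subtype_injective, hK]; norm_num
  have h := le_P0 (Q := Q.map c.toMonoidHom) (S := (K.map Q.subtype).map c.toMonoidHom)
    (by rw [Subgroup.card_map_of_injective c.injective, hQ])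
    (Subgroup.map_mono (Subgroup.map_subtype_le K))
    (by rw [Subgroup.card_map_of_injective c.injective, hKM])
    (by
      rintro _ ⟨_, ⟨k, hk, rfl⟩, rfl⟩
      have : ((k : Q) : M) • x = x := hx ⟨k, hk⟩
      show (qA x * (k : M) * (qA x)⁻¹) • (0 : Fin 1755) = 0
      rw [mul_smul, mul_smul, inv_smul_eq_iff.2 (qA_smul x).symm, this, qA_smul])
    (⟨f, hf, rfl⟩ : qA x * f * (qA x)⁻¹ ∈ Q.map c.toMonoidHom)
  rw [MulAction.mem_stabilizer_iff, mul_smul, mul_smul, inv_smul_eq_iff.2 (qA_smul x).symm] at h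
  exact smul_left_cancel (qA x) (h.trans (qA_smul x).symm)

end CfsgLib.Spor.RuRank
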