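import Cfsg.Agent.Lib.Spor.RuRank.Faith
import Cfsg.Agent.Lib.Spor.RuRank.ChainX0
import Cfsg.Agent.Lib.Spor.RuRank.ChainX1
import Cfsg.Agent.Lib.Spor.RuRank.ChainX2

/-!
Every subgroup of order `15600` of the stabiliser fixes a point of the class of 2304.

Such a subgroup contains, after conjugation, a given group `13 : 4`, and then an element outside it
normalising its Sylow `2`-subgroup; each of the seven possibilities either generates a transitive
group on the lines, which is impossible, or the stabiliser of a point.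
-/

set_option autoImplicit false
set_option maxRecDepth 100000

namespace CfsgLib.Spor.RuRank

open CfsgLib.PresCert CfsgLib.RuGroup Cfsg.Spor

attribute [local irreducible] colW app el idT profT classBits vecT lane pkN sv vec profOf singleP

theorem fact_eq {p n k : ℕ} (hp : p.Prime) (h1 : p ^ k ∣ n) (h2 : ¬ p ^ (k + 1) ∣ n) :
    n.factorization p = k := by
  have hn : n ≠ 0 := fun e => h2 (e ▸ dvd_zero _)
  have a := (hp.pow_dvd_iff_le_factorization hn).1 h1
  have b : ¬ k + 1 ≤ n.factorization p := fun h => h2 ((hp.pow_dvd_iff_le_factorization hn).2 h)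
  omega

/-- A power of the element of order thirteen, as a word. -/
noncomputable def cw (j : Nat) : List Nat :=
  Nat.rec (motive := fun _ => List Nat) [] (fun _ ih => wC ++ ih) j

/-- A power of the element of order four, as a word. -/
noncomputable def tw4 (j : Nat) : List Nat :=
  Nat.rec (motive := fun _ => List Nat) [] (fun _ ih => wT0 ++ ih) j

/-- The element of order thirteen. -/
noncomputable def c0 : M := mw wC

/-- The element of order four normalising it. -/
noncomputable def t0 : M := mw wT0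

theorem wC_lt : (∀ a ∈ wC, a < 8) ∧ ∀ a ∈ wT0, a < 8 := by decide +kernel

theorem cw_spec : ∀ j, mw (cw j) = c0 ^ j ∧ ∀ a ∈ cw j, a < 8
  | 0 => ⟨by rw [pow_zero]; exact mw_nil, fun a h => absurd h List.not_mem_nil⟩
  | j + 1 => by
    show mw (wC ++ cw j) = _ ∧ ∀ a ∈ wC ++ cw j, a < 8
    refine ⟨by rw [mw_append, (cw_spec j).1, pow_succ', c0], fun a h => ?_⟩
    rcases List.mem_append.1 h with h | h
    · exact wC_lt.1 a h
    · exact (cw_spec j).2 a h

theorem tw4_spec : ∀ j, mw (tw4 j) = t0 ^ j ∧ ∀ a ∈ tw4 j, a < 8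
  | 0 => ⟨by rw [pow_zero]; exact mw_nil, fun a h => absurd h List.not_mem_nil⟩
  | j + 1 => by
    show mw (wT0 ++ tw4 j) = _ ∧ ∀ a ∈ wT0 ++ tw4 j, a < 8
    refine ⟨by rw [mw_append, (tw4_spec j).1, pow_succ', t0], fun a h => ?_⟩
    rcases List.mem_append.1 h with h | h
    · exact wC_lt.2 a h
    · exact (tw4_spec j).2 a h

theorem smul_cw (j : ℕ) (x : Fin 1755) : ((c0 ^ j • x : Fin 1755) : ℕ) = evalA (cw j) x := by
  rw [← (cw_spec j).1, smulA_word (cw_spec j).2]

theorem smul_tw4 (j : ℕ) (x : Fin 1755) : ((t0 ^ j • x : Fin 1755) : ℕ) = evalA (tw4 j) x := by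
  rw [← (tw4_spec j).1, smulA_word (tw4_spec j).2]

theorem seeds_C : (((List.range 13).all fun i => Nat.beq (baseC.getD i 0) (evalA (cw i) 0)) &&
    ((List.range 4).all fun i => Nat.beq (baseT.getD i 0) (evalA (tw4 i) 2))) = true := by
  decide +kernel

theorem eq_of_C {f g : M} (h : ∀ i < 13, f • (c0 ^ i • (0 : Fin 1755)) = g • (c0 ^ i • (0 : Fin 1755))) :
    f = g := by
  refine eq_of_seeds baseC_closure fun i hi hlt => ?_
  have e := seeds_C
  simp only [Bool.and_eq_true, List.all_eq_true, List.mem_range, Nat.beq_eq] at e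
  have hp : (⟨baseC.getD i 0, hlt⟩ : Fin 1755) = c0 ^ i • (0 : Fin 1755) :=
    Fin.ext (by rw [smul_cw]; exact e.1 i hi)
  rw [hp]; exact h i hi

theorem eq_of_T {f g : M} (h : ∀ i < 4, f • (t0 ^ i • (2 : Fin 1755)) = g • (t0 ^ i • (2 : Fin 1755))) :
    f = g := by
  refine eq_of_seeds baseT_closure fun i hi hlt => ?_
  have e := seeds_C
  simp only [Bool.and_eq_true, List.all_eq_true, List.mem_range, Nat.beq_eq] at e
  have hp : (⟨baseT.getD i 0, hlt⟩ : Fin 1755) = t0 ^ i • (2 : Fin 1755) :=
    Fin.ext (by rw [smul_tw4]; exact e.2 i hi)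
  rw [hp]; exact h i hi

theorem pow_facts : (((List.range 13).all fun j => Nat.beq (evalA (cw 13) (evalA (cw j) 0)) (evalA (cw j) 0)) &&
    ((List.range 4).all fun j => Nat.beq (evalA (tw4 4) (evalA (tw4 j) 2)) (evalA (tw4 j) 2)) &&
    !Nat.beq (evalA wC 0) 0 && !Nat.beq (evalA (tw4 2) 2) 2) = true := by
  decide +kernel

theorem c0_pow : c0 ^ 13 = 1 := eq_of_C fun i hi => by
  have e := pow_facts
  simp only [Bool.and_eq_true, List.all_eq_true, List.mem_range, Nat.beq_eq] at e
  refine (Fin.ext ?_).trans (one_smul _ _).symm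
  rw [smul_cw, smul_cw]
  exact e.1.1.1 i hi

theorem orderOf_c0 : orderOf c0 = 13 := by
  haveI : Fact (Nat.Prime 13) := ⟨by norm_num⟩
  refine orderOf_eq_prime c0_pow fun h => ?_
  have e := pow_facts
  simp only [Bool.and_eq_true, Bool.not_eq_true'] at e
  have h' := congrArg (fun f : M => ((f • (0 : Fin 1755) : Fin 1755) : ℕ)) h
  simp only [c0, one_smul] at h'
  rw [smulA_word wC_lt.1] at h'
  have h2 := e.1.2
  simp only [Fin.val_zero] at h'
  rw [h'] at h2
  exact absurd h2 (by decide)

theorem t0_pow_four : t0 ^ 4 = 1 := eq_of_T fun i hi => by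
  have e := pow_facts
  simp only [Bool.and_eq_true, List.all_eq_true, List.mem_range, Nat.beq_eq] at e
  refine (Fin.ext ?_).trans (one_smul _ _).symm
  rw [smul_tw4, smul_tw4]
  exact e.1.1.2 i hi

theorem orderOf_t0 : orderOf t0 = 4 := by
  haveI : Fact (Nat.Prime 2) := ⟨Nat.prime_two⟩
  refine orderOf_eq_prime_pow (p := 2) (n := 1) ?_ t0_pow_four
  intro h
  have e := pow_facts
  simp only [Bool.and_eq_true, Bool.not_eq_true'] at e
  have h' := congrArg (fun f : M => ((f • (2 : Fin 1755) : Fin 1755) : ℕ)) h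
  simp only [one_smul, pow_one] at h'
  rw [smul_tw4] at h'
  have h2 := e.2
  rw [show ((2 : Fin 1755) : ℕ) = 2 from rfl] at h'
  rw [h'] at h2
  exact absurd h2 (by decide)

/-! ### The normaliser of the group of order thirteen -/

/-- The colours expected for an element sending the orbit of the first line as given. -/
noncomputable def patC (b k : Nat) : Bool :=
  List.rec (motive := fun _ => Bool) true
    (fun j _ ih => Nat.beq (colF b (evalA (cw (Nat.mod (Nat.mul k j) (nat_lit 13))) b))
      (colF (nat_lit 0) (evalA (cw j) (nat_lit 0))) && ih) [1, 2, 3, 4, 5, 6, 7, 8, 9, 10, 11, 12]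

theorem survC_ok : allBin 1755 (fun b => (List.range 12).all fun k =>
    !patC b (k + 1) || survC.contains (b * 16 + (k + 1))) 11 0 = true := by
  decide +kernel

theorem survC_small : survC.length = 156 ∧
    (∀ m ∈ survC, m % 16 = 1 → ((List.range 13).any fun i => Nat.beq (evalA (cw i) 0) (m / 16)) = true) ∧
    (∀ m ∈ survC, (m % 16 = 5 ∨ m % 16 = 8) → (listC.any fun l => Nat.beq (l.getD 0 0) (m / 16) &&
      Nat.beq (l.getD 1 0) (m % 16) && Nat.blt (l.getD 2 0) 13 && (Nat.beq (l.getD 3 0) 1 || Nat.beq (l.getD 3 0) 3) &&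
      (List.range 13).all fun j => Nat.beq (evalA (cw (l.getD 2 0) ++ tw4 (l.getD 3 0)) (evalA (cw j) 0))
        (evalA (cw (l.getD 1 0 * j % 13)) (l.getD 0 0))) = true) := by
  decide +kernel

theorem smul_orbitC {f : M} {k : ℕ} (hk : f * c0 = c0 ^ k * f) (j : ℕ) :
    f • (c0 ^ j • (0 : Fin 1755)) = c0 ^ (k * j % 13) • (f • (0 : Fin 1755)) := by
  have h : f * c0 ^ j = c0 ^ (k * j) * f := by
    induction j with
    | zero => simp
    | succ j ih => rw [pow_succ, ← mul_assoc, ih, mul_assoc, hk, ← mul_assoc, ← pow_add, Nat.mul_succ]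
  have h2 : c0 ^ (k * j % 13) = c0 ^ (k * j) := by
    conv_rhs => rw [← Nat.mod_add_div (k * j) 13, pow_add, pow_mul, c0_pow, one_pow, mul_one]
  rw [← mul_smul, ← mul_smul, h2, h]

theorem mem_survC {f : M} {k : ℕ} (hk1 : 1 ≤ k) (hk13 : k < 13) (hk : f * c0 = c0 ^ k * f) :
    ((f • (0 : Fin 1755) : Fin 1755) : ℕ) * 16 + k ∈ survC := by
  have h := allBin_spec _ _ _ _ survC_ok _ (Nat.zero_le _) (f • (0 : Fin 1755)).2
    (lt_of_lt_of_le (f • (0 : Fin 1755)).2 (by norm_num))
  simp only [List.all_eq_true, List.mem_range, Bool.or_eq_true, Bool.not_eq_true',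
    List.contains_iff_mem] at h
  have h1 := h (k - 1) (by omega)
  rw [show k - 1 + 1 = k by omega] at h1
  refine h1.resolve_left ?_
  rw [Bool.not_eq_false]
  have key : ∀ j, Nat.beq (colF (f • (0 : Fin 1755) : Fin 1755)
      (evalA (cw (Nat.mod (Nat.mul k j) 13)) (f • (0 : Fin 1755) : Fin 1755)))
      (colF 0 (evalA (cw j) 0)) = true := by
    intro j
    rw [Nat.beq_eq]
    have e := colM_smul f 0 (c0 ^ j • (0 : Fin 1755))
    rw [smul_orbitC hk, colM, colM, smul_cw, smul_cw] at e
    exact e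
  simp only [patC, key, Bool.and_self]

theorem eq_of_key {f g : M} {k : ℕ} (hf : f * c0 = c0 ^ k * f) (hg : g * c0 = c0 ^ k * g)
    (h : f • (0 : Fin 1755) = g • (0 : Fin 1755)) : f = g :=
  eq_of_C fun i _ => by rw [smul_orbitC hf, smul_orbitC hg, h]

theorem exists_exp {f : M} (hf : f ∈ Subgroup.normalizer (Subgroup.zpowers c0 : Set M)) :
    ∃ k, 1 ≤ k ∧ k < 13 ∧ f * c0 = c0 ^ k * f := by
  have h := (Subgroup.mem_normalizer_iff.1 hf c0).1 (Subgroup.mem_zpowers c0)
  obtain ⟨k, hk, e⟩ : ∃ k < 13, c0 ^ k = f * c0 * f⁻¹ := by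
    rw [← orderOf_c0]
    obtain ⟨k, hk⟩ := (IsOfFinOrder.mem_powers_iff_mem_zpowers (isOfFinOrder_of_finite c0)).2 h
    exact ⟨k % orderOf c0, Nat.mod_lt _ (orderOf_pos c0), by rw [pow_mod_orderOf]; exact hk⟩
  refine ⟨k, ?_, hk, by rw [e, inv_mul_cancel_right]⟩
  rcases Nat.eq_zero_or_pos k with rfl | h0
  · exfalso
    rw [pow_zero, eq_comm, mul_inv_eq_one, mul_eq_left] at e
    have := orderOf_c0
    rw [e, orderOf_one] at this
    norm_num at this
  · exact h0

theorem card_normC : Nat.card (Subgroup.normalizer (Subgroup.zpowers c0 : Set M)) ≤ 156 := by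
  classical
  choose k h1 h13 hk using fun f : Subgroup.normalizer (Subgroup.zpowers c0 : Set M) => exists_exp f.2
  let φ : Subgroup.normalizer (Subgroup.zpowers c0 : Set M) → {m // m ∈ survC.toFinset} := fun f =>
    ⟨_, List.mem_toFinset.2 (mem_survC (h1 f) (h13 f) (hk f))⟩
  have hinj : Function.Injective φ := fun f g e => by
    have e' := congrArg Subtype.val e
    simp only [φ] at e'
    have := h13 f; have := h13 g
    have ek : k f = k g := by omega
    refine Subtype.ext (eq_of_key (hk f) (ek ▸ hk g) (Fin.ext (by omega)))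
  refine (Nat.card_le_card_of_injective φ hinj).trans ?_
  rw [Nat.card_eq_fintype_card, Fintype.card_coe]
  exact (List.toFinset_card_le _).trans survC_small.1.le

theorem exp_one {f : M} (hk : f * c0 = c0 ^ 1 * f) (h4 : f ^ 4 = 1) : f = 1 := by
  have hm := survC_small.2.1 _ (mem_survC le_rfl (by norm_num) hk) (by omega)
  rw [List.any_eq_true] at hm
  obtain ⟨i, hi, e⟩ := hm
  rw [List.mem_range] at hi
  rw [Nat.beq_eq, show (((f • (0 : Fin 1755) : Fin 1755) : ℕ) * 16 + 1) / 16 = ((f • (0 : Fin 1755) : Fin 1755) : ℕ) by omega] at e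
  have hf : f = c0 ^ i := eq_of_key hk (by rw [pow_one, ← pow_succ, ← pow_succ'])
    (Fin.ext (by rw [smul_cw]; exact e.symm))
  rw [hf, ← pow_mul, ← orderOf_dvd_iff_pow_eq_one, orderOf_c0] at h4
  have : i = 0 := by omega
  rw [hf, this, pow_zero]

/-- A subgroup of order 15600 containing the element of order thirteen contains that of order four. -/
theorem t0_mem {Q : Subgroup M} (hQ : Nat.card Q = 15600) (hc : c0 ∈ Q) : t0 ∈ Q := by
  classical
  haveI : Fact (Nat.Prime 13) := ⟨by norm_num⟩
  haveI : Fact (Nat.Prime 2) := ⟨Nat.prime_two⟩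
  set cQ : Q := ⟨c0, hc⟩
  have hord : orderOf cQ = 13 := by
    rw [← orderOf_c0]; exact (orderOf_injective Q.subtype Q.subtype_injective cQ).symm
  let C : Sylow 13 Q := Sylow.ofCard (Subgroup.zpowers cQ) (by
    rw [Nat.card_zpowers, hord, hQ, fact_eq (k := 1) (by norm_num) (by norm_num) (by norm_num)]
    norm_num)
  have hCc : (C : Subgroup Q) = Subgroup.zpowers cQ := rfl
  set N := Subgroup.normalizer ((C : Subgroup Q) : Set Q)
  have hmap : ∀ g ∈ N, (g : M) ∈ Subgroup.normalizer (Subgroup.zpowers c0 : Set M) := by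
    intro g hg
    have h := (Subgroup.mem_normalizer_iff.1 hg cQ).1 (hCc ▸ Subgroup.mem_zpowers cQ)
    rw [hCc, Subgroup.mem_zpowers_iff] at h
    obtain ⟨m, hm⟩ := h
    have hm' : c0 ^ m = (g : M) * c0 * (g : M)⁻¹ := by
      have := congrArg Subtype.val hm
      simpa [cQ] using this
    have hle : (Subgroup.zpowers c0).map (MulAut.conj (g : M)).toMonoidHom ≤ Subgroup.zpowers c0 := by
      rw [MonoidHom.map_zpowers, Subgroup.zpowers_le]
      exact ⟨m, hm'⟩
    have he := Subgroup.eq_of_le_of_card_ge hle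
      (le_of_eq (Subgroup.card_map_of_injective (MulAut.conj (g : M)).injective).symm)
    refine Subgroup.mem_normalizer_iff.2 fun x => ?_
    show x ∈ Subgroup.zpowers c0 ↔ MulAut.conj (g : M) x ∈ Subgroup.zpowers c0
    conv_rhs => rw [← he]
    exact (Subgroup.mem_map_iff_mem (f := (MulAut.conj (g : M)).toMonoidHom) (MulAut.conj (g : M)).injective).symm
  have hN156 : Nat.card N ≤ 156 := le_trans (Nat.card_le_card_of_injective
    (fun g : N => (⟨(g : Q), hmap g g.2⟩ : Subgroup.normalizer (Subgroup.zpowers c0 : Set M)))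
    fun a b e => Subtype.ext (Subtype.ext (congrArg
      (fun z : Subgroup.normalizer (Subgroup.zpowers c0 : Set M) => (z : M)) e))) card_normC
  have hidx := Subgroup.card_mul_index N
  have hn := C.card_eq_index_normalizer
  have hmod := card_sylow_modEq_one 13 Q
  rw [hn] at hmod
  have hdvd : N.index ∣ 1200 := by
    have h1 := C.card_dvd_index
    rw [hn] at h1
    have h2 := Subgroup.card_mul_index (C : Subgroup Q)
    rw [hCc, Nat.card_zpowers, hord, hQ] at h2
    rw [← hCc] at h2
    rwa [show (C : Subgroup Q).index = 1200 by omega] at h1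
  have hN52 : Nat.card N = 52 := by
    rw [hQ] at hidx
    have hge : 100 ≤ N.index := by nlinarith
    have hle := Nat.le_of_dvd (by norm_num) hdvd
    have key : ∀ n < 1201, 100 ≤ n → n ∣ 1200 → n % 13 = 1 → n = 300 := by decide +kernel
    have h300 := key _ (by omega) hge hdvd hmod
    rw [h300] at hidx
    omega
  obtain ⟨V, hV⟩ := Sylow.exists_subgroup_card_pow_prime 2 (n := 2) (G := N) (by rw [hN52]; norm_num)
  have hV4 : ∀ v : V, ((((v : N) : Q)) : M) ^ 4 = 1 := fun v => by
    have h := pow_card_eq_one' (x := v)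
    rw [hV] at h
    have := congrArg (fun v : V => (((v : N) : Q) : M)) h
    simpa using this
  choose k h1 h13 hk using fun v : V => exists_exp (hmap _ (v : N).2)
  -- exponents have order dividing four
  have hk4 : ∀ v : V, k v = 1 ∨ k v = 5 ∨ k v = 8 ∨ k v = 12 := fun v => by
    set g : M := (((v : N) : Q) : M) with hg
    have e : ∀ j, g ^ j * c0 = c0 ^ (k v) ^ j * g ^ j := by
      intro j
      induction j with
      | zero => simp
      | succ j ih =>
        have e2 : ∀ i, g * c0 ^ i = c0 ^ (k v * i) * g := by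
          intro i
          induction i with
          | zero => simp
          | succ i ih2 =>
            rw [pow_succ, ← mul_assoc, ih2, mul_assoc, hg, hk v, ← hg, ← mul_assoc, ← pow_add, Nat.mul_succ]
        rw [pow_succ', mul_assoc, ih, ← mul_assoc, e2, mul_assoc, ← pow_succ', pow_succ']
    have e4 := e 4
    rw [hV4 v, one_mul, mul_one] at e4
    have hm : k v ^ 4 % 13 = 1 := by
      have e5 : c0 ^ k v ^ 4 = c0 ^ 1 := by rw [← e4, pow_one]
      rwa [pow_eq_pow_iff_modEq, orderOf_c0] at e5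
    have key : ∀ i < 13, i ^ 4 % 13 = 1 → i = 1 ∨ i = 5 ∨ i = 8 ∨ i = 12 := by decide
    exact key _ (h13 v) hm
  have key58 : ∀ v : V, k v = 5 ∨ k v = 8 → t0 ∈ Q := by
    intro v hv
    set g : M := (((v : N) : Q) : M) with hg
    have hgQ : g ∈ Q := ((v : N) : Q).2
    have hlt : ((g • (0 : Fin 1755) : Fin 1755) : ℕ) < 1755 := (g • (0 : Fin 1755)).2
    have hkv := h13 v
    have hm := survC_small.2.2 _ (mem_survC (h1 v) hkv (hk v)) (by omega)
    rw [List.any_eq_true] at hm
    obtain ⟨l, -, hl⟩ := hm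
    simp only [Bool.and_eq_true, Bool.or_eq_true, Nat.beq_eq, Nat.blt_eq, List.all_eq_true,
      List.mem_range] at hl
    obtain ⟨⟨⟨⟨hb, hk'⟩, -⟩, he⟩, hall⟩ := hl
    rw [← hg] at hb hk'
    have hb' : l.getD 0 0 = ((g • (0 : Fin 1755) : Fin 1755) : ℕ) := by omega
    have hk'' : l.getD 1 0 = k v := by omega
    have hw : ∀ a ∈ cw (l.getD 2 0) ++ tw4 (l.getD 3 0), a < 8 := fun a h =>
      (List.mem_append.1 h).elim ((cw_spec _).2 a) ((tw4_spec _).2 a)
    have e : g = c0 ^ l.getD 2 0 * t0 ^ l.getD 3 0 := eq_of_C fun j hj => by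
      rw [smul_orbitC (hk v), ← (cw_spec (l.getD 2 0)).1, ← (tw4_spec (l.getD 3 0)).1, ← mw_append]
      refine Fin.ext ?_
      rw [smul_cw, smulA_word hw, smul_cw, ← hk'']
      show evalA _ (g • (0 : Fin 1755) : Fin 1755) = _
      rw [← hb']
      exact (hall j hj).symm
    have ht : t0 ^ l.getD 3 0 ∈ Q := by
      have := mul_mem (inv_mem (pow_mem hc (l.getD 2 0))) (e ▸ hgQ)
      rwa [inv_mul_cancel_left] at this
    have h9 := pow_mem ht (l.getD 3 0)
    rw [← pow_mul] at h9
    rcases he with he | he <;> rw [he] at h9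
    · simpa using h9
    · rwa [show 3 * 3 = 4 * 2 + 1 from rfl, pow_add, pow_mul, t0_pow_four, one_pow, one_mul, pow_one] at h9
  by_contra ht
  have hno : ∀ v : V, v = 1 ∨ k v = 12 := by
    intro v
    rcases hk4 v with e | e | e | e
    · left
      have : ((((v : N) : Q)) : M) = 1 := exp_one (by have h := hk v; rwa [e] at h) (hV4 v)
      exact Subtype.ext (Subtype.ext (Subtype.ext this))
    · exact absurd (key58 v (Or.inl e)) ht
    · exact absurd (key58 v (Or.inr e)) ht
    · exact Or.inr e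
  have huniq : ∀ v w : V, v ≠ 1 → w ≠ 1 → v = w := by
    intro v w hv hw
    have h12 : ∀ u : V, u ≠ 1 → ((((u : N) : Q)) : M) * c0 = c0 ^ 12 * (((u : N) : Q) : M) := fun u hu =>
      ((hno u).resolve_left hu) ▸ hk u
    have hprod : ∀ u u' : V, u ≠ 1 → u' ≠ 1 → u * u' = 1 := by
      intro u u' hu hu'
      have e : ((((u * u' : V) : N) : Q) : M) = 1 := by
        refine exp_one ?_ (hV4 _)
        push_cast
        have a := h12 u hu; have b := h12 u' hu'
        have e2 : ∀ i, (((u : N) : Q) : M) * c0 ^ i = c0 ^ (12 * i) * (((u : N) : Q) : M) := by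
          intro i
          induction i with
          | zero => simp
          | succ i ih2 => rw [pow_succ, ← mul_assoc, ih2, mul_assoc, a, ← mul_assoc, ← pow_add, Nat.mul_succ]
        rw [mul_assoc, b, ← mul_assoc, e2, mul_assoc,
          show (12 * 12 : ℕ) = 13 * 11 + 1 by norm_num, pow_add, pow_mul, c0_pow, one_pow, one_mul]
      exact Subtype.ext (Subtype.ext (Subtype.ext e))
    exact (mul_right_cancel ((hprod v v hv hv).trans (hprod w v hw hv).symm))
  have h2 : Nat.card V ≤ 2 := by
    haveI : Fintype V := Fintype.ofFinite _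
    rw [Nat.card_eq_fintype_card]
    have hsub : (Finset.univ.erase (1 : V)).card ≤ 1 := Finset.card_le_one.2 fun a ha b hb =>
      huniq a b (Finset.ne_of_mem_erase ha) (Finset.ne_of_mem_erase hb)
    rw [Finset.card_erase_of_mem (Finset.mem_univ _), Finset.card_univ] at hsub
    omega
  omega

end CfsgLib.Spor.RuRank
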